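import Mathlib
import Cfsg.Agent.Lib.Helper26.McLFusStmt
import Cfsg.Agent.Lib.Helper86.FSSimple

/-! S5323 piece CRIT (helper84): the simplicity criterion `Crit` of helper26's McL call. -/

set_option autoImplicit false
open Cfsg

namespace Cfsg.Agent.Lib.Helper84.McLFusCRIT

open Cfsg.Agent.Lib.Helper26.McLFusStmt

universe u

/-- transport of `Data` along an isomorphism -/
theorem data_comap {G : Type u} {G0 : Type} [Group G] [Group G0] (e : G ≃* G0) {S0 : Subgroup G0}
    {t : G0} (h : Data S0 t) : Data (S0.comap e.toMonoidHom) (e.symm t) := by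
  refine ⟨?_, ?_, ?_, ?_, ?_, ?_⟩
  · rw [← map_mul, h.t_sq, map_one]
  · intro h1
    apply h.t_ne
    have := congrArg e h1
    rwa [MulEquiv.apply_symm_apply, map_one] at this
  · show e (e.symm t) ∈ S0
    rw [MulEquiv.apply_symm_apply]
    exact h.t_mem
  · intro u hu hu1
    have h1 : e u * e u = 1 := by rw [← map_mul, hu, map_one]
    have h2 : e u ≠ 1 := fun h2 => hu1 (by
      have := congrArg e.symm h2
      rwa [MulEquiv.symm_apply_apply, map_one] at this)
    obtain ⟨g0, hg0⟩ := h.conj (e u) h1 h2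
    refine ⟨e.symm g0, ?_⟩
    apply e.injective
    rw [map_mul, map_mul, map_inv, MulEquiv.apply_symm_apply, MulEquiv.apply_symm_apply, hg0]
  · intro T hT x hx
    have hx' : e x ∈ S0 := hx
    have h1 : S0 ≤ T.map e.toMonoidHom := by
      apply h.gen_S
      intro u0 hu0 hu0sq
      refine ⟨e.symm u0, hT (e.symm u0) ?_ ?_, ?_⟩
      · show e (e.symm u0) ∈ S0
        rw [MulEquiv.apply_symm_apply]
        exact hu0
      · rw [← map_mul, hu0sq, map_one]
      · show e (e.symm u0) = u0
        rw [MulEquiv.apply_symm_apply]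
    obtain ⟨y, hy, hyx⟩ := h1 hx'
    have : y = x := e.injective hyx
    rw [← this]
    exact hy
  · intro n hn
    have hn' : e n ∈ Subgroup.normalizer (S0 : Set G0) := by
      rw [Subgroup.mem_normalizer_iff] at hn ⊢
      intro y0
      have h1 := hn (e.symm y0)
      have e1 : e.symm y0 ∈ S0.comap e.toMonoidHom ↔ y0 ∈ S0 := by
        show e (e.symm y0) ∈ S0 ↔ _
        rw [MulEquiv.apply_symm_apply]
      have e2 : n * e.symm y0 * n⁻¹ ∈ S0.comap e.toMonoidHom ↔ e n * y0 * (e n)⁻¹ ∈ S0 := by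
        show e (n * e.symm y0 * n⁻¹) ∈ S0 ↔ _
        rw [map_mul, map_mul, map_inv, MulEquiv.apply_symm_apply]
      rw [← e1, ← e2]
      exact h1
    obtain ⟨s0, hs0, hs⟩ := h.norm (e n) hn'
    refine ⟨e.symm s0, ?_, ?_⟩
    · show e (e.symm s0) ∈ S0
      rw [MulEquiv.apply_symm_apply]
      exact hs0
    · intro x hx
      apply e.injective
      rw [map_mul, map_mul, map_inv, map_mul, map_mul, map_inv, MulEquiv.apply_symm_apply]
      exact hs (e x) hx

/-- the criterion for a Sylow subgroup carrying the data -/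
theorem simple_of_data {G : Type u} [Group G] [Finite G] (S : Sylow 2 G) {t : G}
    (h : Data (S : Subgroup G) t) : (groupFusionSystem (S : Subgroup G)).IsSimple 2 := by
  haveI : Fact (Nat.Prime 2) := ⟨Nat.prime_two⟩
  have hS1 : (S : Subgroup G) ≠ ⊥ := by
    intro h0
    have := h.t_mem
    rw [h0] at this
    exact h.t_ne (Subgroup.mem_bot.mp this)
  refine Cfsg.Agent.Lib.Helper86.FSSimple.simple_of_aut_pGroup 2 S hS1 ?_ ?_
  · intro T hTc
    by_cases hT1 : T = ⊥
    · exact Or.inl hT1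
    right
    have hTS : T ≤ (S : Subgroup G) := hTc.1
    -- an involution in `T`
    have hTp : IsPGroup 2 T := S.isPGroup'.to_le hTS
    haveI : Nontrivial T := (Subgroup.nontrivial_iff_ne_bot T).mpr hT1
    obtain ⟨m, hm⟩ := IsPGroup.iff_card.mp hTp
    have hm0 : m ≠ 0 := by
      rintro rfl
      have h1 : 1 < Nat.card T := Finite.one_lt_card
      rw [hm, pow_zero] at h1
      exact lt_irrefl _ h1
    have h2 : 2 ∣ Nat.card T := by
      rw [hm]
      exact dvd_pow_self 2 hm0
    obtain ⟨u, hu⟩ := exists_prime_orderOf_dvd_card' 2 h2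
    have hu1 : (u : G) ≠ 1 := by
      intro h1
      have : u = 1 := Subtype.ext h1
      rw [this, orderOf_one] at hu
      exact absurd hu (by norm_num)
    have husq : (u : G) * (u : G) = 1 := by
      have h1 : u ^ 2 = 1 := by rw [← hu]; exact pow_orderOf_eq_one u
      have h2 := congrArg Subtype.val h1
      rw [← pow_two]
      exact h2
    obtain ⟨g₁, hg₁⟩ := h.conj (u : G) husq hu1
    apply le_antisymm hTS
    apply h.gen_S
    intro v hv hvsq
    by_cases hv1 : v = 1
    · rw [hv1]; exact T.one_mem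
    obtain ⟨g₂, hg₂⟩ := h.conj v hvsq hv1
    have e : v = (g₂ * g₁⁻¹) * (u : G) * (g₂ * g₁⁻¹)⁻¹ := by
      rw [← hg₁, ← hg₂]
      group
    rw [e]
    apply Cfsg.Agent.Lib.Helper86.FSSimple.stronglyClosed_conj hTc u.2
    rw [← e]
    exact hv
  · intro n hn
    obtain ⟨s, hs, hsn⟩ := h.norm n hn
    have key : ∀ j : ℕ, ∀ x ∈ (S : Subgroup G), n ^ j * x * (n ^ j)⁻¹ = s ^ j * x * (s ^ j)⁻¹ := by
      intro j
      induction j with
      | zero => intro x _; simp
      | succ j ih =>
        intro x hx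
        have h1 : s ^ j * x * (s ^ j)⁻¹ ∈ (S : Subgroup G) :=
          Subgroup.mul_mem _ (Subgroup.mul_mem _ (Subgroup.pow_mem _ hs j) hx)
            (Subgroup.inv_mem _ (Subgroup.pow_mem _ hs j))
        have e1 : n ^ (j + 1) * x * (n ^ (j + 1))⁻¹ = n * (n ^ j * x * (n ^ j)⁻¹) * n⁻¹ := by
          rw [pow_succ']
          group
        have e2 : s ^ (j + 1) * x * (s ^ (j + 1))⁻¹ = s * (s ^ j * x * (s ^ j)⁻¹) * s⁻¹ := by
          rw [pow_succ']
          group
        rw [e1, e2, ih x hx, hsn _ h1]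
    obtain ⟨k, hk⟩ := S.isPGroup' ⟨s, hs⟩
    have hk' : s ^ 2 ^ k = 1 := congrArg Subtype.val hk
    refine ⟨k, fun x hx => ?_⟩
    rw [key (2 ^ k) x hx, hk']
    simp

theorem main : Crit.{u} := by
  intro G0 _ _ S0 t hD k hk hnd G _ _ ⟨e⟩ S
  haveI : Fact (Nat.Prime 2) := ⟨Nat.prime_two⟩
  -- the preimage of `S0` is a Sylow 2-subgroup of `G`
  have hcardG : Nat.card G = Nat.card G0 := Nat.card_congr e.toEquiv
  have hcardS : Nat.card ↥(S0.comap e.toMonoidHom) = 2 ^ k := by
    rw [← hk]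
    refine Nat.card_congr ⟨fun x => ⟨e x, x.2⟩, fun y => ⟨e.symm y, ?_⟩, ?_, ?_⟩
    · show e (e.symm y) ∈ S0
      rw [MulEquiv.apply_symm_apply]
      exact y.2
    · intro x
      apply Subtype.ext
      exact e.symm_apply_apply x
    · intro y
      apply Subtype.ext
      exact e.apply_symm_apply y
  have hfac : (Nat.card G).factorization 2 = k := by
    have hG0 : Nat.card G ≠ 0 := Nat.card_pos.ne'
    have h1 : 2 ^ k ∣ Nat.card G := by
      rw [← hcardS]
      exact Subgroup.card_subgroup_dvd_card _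
    have h2 : ¬ 2 ^ (k + 1) ∣ Nat.card G := by rw [hcardG]; exact hnd
    have h3 := (Nat.Prime.pow_dvd_iff_le_factorization Nat.prime_two hG0).mp h1
    have h4 : ¬ (k + 1 ≤ (Nat.card G).factorization 2) := fun h =>
      h2 ((Nat.Prime.pow_dvd_iff_le_factorization Nat.prime_two hG0).mpr h)
    omega
  have hcard' : Nat.card ↥(S0.comap e.toMonoidHom) = 2 ^ (Nat.card G).factorization 2 := by
    rw [hfac, hcardS]
  obtain ⟨g, hg⟩ := MulAction.exists_smul_eq G (Sylow.ofCard (S0.comap e.toMonoidHom) hcard') S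
  -- adjust the isomorphism so that `S` is the preimage of `S0`
  have hS : (S : Subgroup G) = S0.comap ((MulAut.conj g⁻¹).trans e).toMonoidHom := by
    rw [← hg]
    ext x
    rw [Sylow.coe_subgroup_smul, Subgroup.mem_pointwise_smul_iff_inv_smul_mem, Sylow.coe_ofCard]
    show e ((MulAut.conj g)⁻¹ x) ∈ S0 ↔ e (MulAut.conj g⁻¹ x) ∈ S0
    rw [map_inv]
  have hD' := data_comap ((MulAut.conj g⁻¹).trans e) hD
  rw [← hS] at hD'
  exact simple_of_data S hD'

end Cfsg.Agent.Lib.Helper84.McLFusCRIT
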