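import Mathlib
import Cfsg.Agent.Lib.Helper25.ACStmt

/-! S3912 piece CASEE (second seat): case (E), from `ExpSyl`, `SZLift`, `LiftCrit`. -/

set_option autoImplicit false

namespace Cfsg.Agent.Lib.Helper84.ACCASEE

open Cfsg.Agent.Lib.Helper25.ACStmt

universe u

theorem main (hX : ExpSyl.{u}) (hS : SZLift.{u}) (hL : LiftCrit.{u}) : CaseE.{u} := by
  intro G _ _ hB r hr R N₀ hN₀n hp hne hexp
  have hcop := hX G hB r R N₀ hN₀n hp hne hexp
  apply hL G N₀ hB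
  refine ⟨id, fun A hA => ?_⟩
  have hdvd : Nat.card ↥A ∣ N₀.index := by
    rw [Subgroup.index_eq_card]
    exact Subgroup.card_subgroup_dvd_card A
  have hcop' : Nat.Coprime (Nat.card ↥N₀) (Nat.card ↥A) := Nat.Coprime.coprime_dvd_right hdvd hcop
  obtain ⟨A₀, hA₀, hmap, hcard⟩ := hS G N₀ A hA hcop'
  exact ⟨A₀, hA₀, hmap, hcard⟩

end Cfsg.Agent.Lib.Helper84.ACCASEE
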