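import Mathlib
import Cfsg.Agent.Lib.Helper32.D8Stmt
import Cfsg.Agent.Lib.Helper26.GenChar

set_option autoImplicit false

/-! S3716 piece CASE2 (second seat helper84): the fusion case `a ~ a*b`, from MULT4, COMMON,
COMMONNEG, XM, C2A, C2B, C2T. -/

namespace Cfsg.Agent.Lib.Helper84.D8CASE2

open Cfsg Cfsg.Agent.Lib.Helper32 Cfsg.Agent.Lib.Helper26.GenChar
open scoped ComplexConjugate

universe u

theorem classInner_sub_left' {G : Type u} [Group G] [Fintype G] (φ₁ φ₂ ψ : G → ℂ) :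
    classInner (φ₁ - φ₂) ψ = classInner φ₁ ψ - classInner φ₂ ψ := by
  unfold classInner
  rw [← mul_sub, ← Finset.sum_sub_distrib]
  congr 1
  apply Finset.sum_congr rfl
  intro g _
  rw [Pi.sub_apply, sub_mul]

theorem main (hMULT4 : D8Stmt.MULT4.{u}) (hCOMMON : D8Stmt.COMMON.{u})
    (hCOMMONNEG : D8Stmt.COMMONNEG.{u}) (hXM : D8Stmt.XM.{u}) (hC2A : D8Stmt.C2A.{u})
    (hC2B : D8Stmt.C2B.{u}) (hC2T : D8Stmt.C2T.{u}) : D8Stmt.CASE2.{u} := by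
  intro G _ _ Θ1 Θ2 Θ3 Θ4 a w ca cw hB hca hcw hM9 hTab
  have hg14 : IsGeneralizedCharacter G (Θ1 - Θ4) := isGeneralizedCharacter_sub hB.g1 hB.g4
  have hg23 : IsGeneralizedCharacter G (Θ2 - Θ3) := isGeneralizedCharacter_sub hB.g2 hB.g3
  have h14_1 : (Θ1 - Θ4) 1 = 0 := by rw [Pi.sub_apply, hB.o1, hB.o4, sub_zero]
  have h23_1 : (Θ2 - Θ3) 1 = 0 := by rw [Pi.sub_apply, hB.o2, hB.o3, sub_zero]
  have hn14 : classInner (Θ1 - Θ4) (Θ1 - Θ4) = 4 := by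
    rw [classInner_sub_left', classInner_sub_right, classInner_sub_right, hB.n11, hB.n14,
      hB.n41, hB.n44]
    norm_num
  have hn23 : classInner (Θ2 - Θ3) (Θ2 - Θ3) = 4 := by
    rw [classInner_sub_left', classInner_sub_right, classInner_sub_right, hB.n22, hB.n23,
      hB.n32, hB.n33]
    norm_num
  have ht14 : classInner (Θ1 - Θ4) (D8Stmt.triv G) = 1 := by
    rw [classInner_sub_left', hB.t1, hB.t4, sub_zero]
  have ht23 : classInner (Θ2 - Θ3) (D8Stmt.triv G) = -1 := by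
    rw [classInner_sub_left', hB.t2, hB.t3, zero_sub]
  have hcross : classInner (Θ1 - Θ4) (Θ2 - Θ3) = -2 := by
    rw [classInner_sub_left', classInner_sub_right, classInner_sub_right, hB.n12, hB.n13,
      hB.n42, hB.n43]
    norm_num
  obtain ⟨U, hU, hUt, hUc⟩ :=
    hCOMMONNEG (Θ1 - Θ4) (Θ2 - Θ3) hg14 hg23 h14_1 h23_1 hn14 hn23 ht14 ht23 hcross
  obtain ⟨σ, hσ, hσ1, hσ2⟩ : ∃ σ : ℂ, (σ = 1 ∨ σ = -1) ∧ classInner (Θ1 - Θ4) U = σ ∧
      classInner (Θ2 - Θ3) U = -σ := by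
    rcases hUc with ⟨h1, h2⟩ | ⟨h1, h2⟩
    · exact ⟨1, Or.inl rfl, h1, h2⟩
    · exact ⟨-1, Or.inr rfl, h1, by rw [h2, neg_neg]⟩
  rw [classInner_sub_left'] at hσ1 hσ2
  have hm1 := hMULT4 Θ1 U hB.g1 hB.o1 hB.n11 hU
  have hm2 := hMULT4 Θ2 U hB.g2 hB.o2 hB.n22 hU
  have hm3 := hMULT4 Θ3 U hB.g3 hB.o3 hB.n33 hU
  have hm4 := hMULT4 Θ4 U hB.g4 hB.o4 hB.n44 hU
  obtain ⟨T1, T2, -, -⟩ := hC2T Θ1 Θ2 Θ3 Θ4 a w ca cw hB hca hcw hTab U σ hU hUt hσ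
  have hs' : (-σ = 1 ∨ -σ = -1) := by
    rcases hσ with h | h
    · exact Or.inr (by rw [h])
    · exact Or.inl (by rw [h, neg_neg])
  have hA : (classInner Θ1 U = σ ∧ classInner Θ4 U = 0) ∨
      (classInner Θ1 U = 0 ∧ classInner Θ4 U = -σ) := by
    rcases hσ with rfl | rfl <;> rcases hm1 with h | h | h <;> rcases hm4 with h' | h' | h' <;>
      rw [h, h'] at hσ1 <;> norm_num at hσ1 <;> simp [h, h']
  have hB' : (classInner Θ2 U = -σ ∧ classInner Θ3 U = 0) ∨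
      (classInner Θ2 U = 0 ∧ classInner Θ3 U = σ) := by
    rcases hσ with rfl | rfl <;> rcases hm2 with h | h | h <;> rcases hm3 with h' | h' | h' <;>
      rw [h, h'] at hσ2 <;> norm_num at hσ2 <;> simp [h, h']
  rcases hA with ⟨h1, h4⟩ | ⟨h1, h4⟩ <;> rcases hB' with ⟨h2, h3⟩ | ⟨h2, h3⟩
  · exact ⟨U, hU, hUt, Or.inr (Or.inr (T1 h1 h2))⟩
  · exact ⟨U, hU, hUt, Or.inl
      (hC2B Θ1 Θ2 Θ3 Θ4 a w ca cw hB hca hcw hTab U σ hU hUt hσ h1 h2 h3 h4)⟩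
  · -- the last case: `U` in `Θ2`, `Θ4` only
    obtain ⟨X, hX, hXt, hXc⟩ :=
      hCOMMON Θ1 Θ3 hB.g1 hB.g3 hB.o1 hB.o3 hB.n11 hB.n33 hB.t1 hB.t3 hB.n13
    obtain ⟨e, he, hX1, hX3⟩ : ∃ e : ℂ, (e = 1 ∨ e = -1) ∧ classInner Θ1 X = e ∧
        classInner Θ3 X = e := by
      rcases hXc with ⟨h1', h2'⟩ | ⟨h1', h2'⟩
      · exact ⟨1, Or.inl rfl, h1', h2'⟩
      · exact ⟨-1, Or.inr rfl, h1', h2'⟩
    have hne2 : classInner Θ2 X ≠ -e :=
      hXM Θ3 Θ2 X e hB.g3 hB.g2 hB.o3 hB.o2 hB.n33 hB.n22 hB.t3 hB.t2 hB.n32 hX hXt he hX3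
    have hne4 : classInner Θ4 X ≠ -e :=
      hXM Θ1 Θ4 X e hB.g1 hB.g4 hB.o1 hB.o4 hB.n11 hB.n44 hB.t1 hB.t4 hB.n14 hX hXt he hX1
    have hx2 : classInner Θ2 X = 0 ∨ classInner Θ2 X = e := by
      rcases hMULT4 Θ2 X hB.g2 hB.o2 hB.n22 hX with h | h | h
      · exact Or.inl h
      · rcases he with he' | he'
        · exact Or.inr (by rw [h, he'])
        · exact absurd (by rw [h, he', neg_neg]) hne2
      · rcases he with he' | he'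
        · exact absurd (by rw [h, he']) hne2
        · exact Or.inr (by rw [h, he'])
    have hx4 : classInner Θ4 X = 0 ∨ classInner Θ4 X = e := by
      rcases hMULT4 Θ4 X hB.g4 hB.o4 hB.n44 hX with h | h | h
      · exact Or.inl h
      · rcases he with he' | he'
        · exact Or.inr (by rw [h, he'])
        · exact absurd (by rw [h, he', neg_neg]) hne4
      · rcases he with he' | he'
        · exact absurd (by rw [h, he']) hne4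
        · exact Or.inr (by rw [h, he'])
    obtain ⟨-, -, T3', T4'⟩ := hC2T Θ1 Θ2 Θ3 Θ4 a w ca cw hB hca hcw hTab X e hX hXt he
    rcases hx2 with hX2 | hX2 <;> rcases hx4 with hX4 | hX4
    · exact ⟨X, hX, hXt, Or.inl
        (hC2B Θ1 Θ2 Θ3 Θ4 a w ca cw hB hca hcw hTab X e hX hXt he hX1 hX2 hX3 hX4)⟩
    · exact ⟨X, hX, hXt, Or.inr (Or.inr (T3' hX1 hX2 hX3 hX4))⟩
    · exact (T4' hX1 hX2 hX3 hX4).elim
    · exact ⟨U, hU, hUt, Or.inl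
        (hC2A Θ1 Θ2 Θ3 Θ4 a w ca cw hB hca hcw hM9 hTab X U e (-σ) hX hU hXt hUt he hs'
          hX1 hX2 hX3 hX4 h1 h2 h3 h4)⟩
  · exact ⟨U, hU, hUt, Or.inr (Or.inl (T2 h3 h4))⟩

end Cfsg.Agent.Lib.Helper84.D8CASE2
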