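import Mathlib
import Cfsg.Agent.Lib.Helper32.D8Stmt

set_option autoImplicit false

/-! S3716 piece CS3 (second seat helper84): class-pair sums of `th1`, `th2` when `w ~ a*b`,
from PAIRSUM2, FIB2b, RED2, INVCL, NF (`|C_G(x)| = 18`) and the local sums LOC*. -/

namespace Cfsg.Agent.Lib.Helper84.D8CS3

open Cfsg Cfsg.Agent.Lib.Helper32 Cfsg.Agent.Lib.Helper32.D8Stmt

universe u

open Classical in
theorem bb_formula (hPAIRSUM2 : PAIRSUM2.{u}) (hFIB2b : FIB2b.{u}) {G : Type u} [Group G]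
    [Fintype G] (H : Subgroup G) (θ : H → ℂ) (u v : G) :
    ∃ Cu Cv : Finset G, (∀ z, z ∈ Cu ↔ IsConj u z) ∧ (∀ z, z ∈ Cv ↔ IsConj v z) ∧
      bb (indFun H θ) u v = (Nat.card G : ℂ)⁻¹ * ((Nat.card H : ℂ)⁻¹ * (cz u * cz v *
        ∑ u₁ ∈ Cu, ∑ u₂ ∈ Cv, extendByZero H θ (u₁ * u₂))) := by
  refine ⟨Finset.univ.filter (fun z : G => IsConj u z),
    Finset.univ.filter (fun z : G => IsConj v z), ?_, ?_, ?_⟩
  · intro z
    rw [Finset.mem_filter]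
    simp only [Finset.mem_univ, true_and]
  · intro z
    rw [Finset.mem_filter]
    simp only [Finset.mem_univ, true_and]
  · unfold bb
    rw [hPAIRSUM2 H θ u v, hFIB2b (fun u₁ u₂ => extendByZero H θ (u₁ * u₂)) u v]

section

variable {G : Type u} [Group G] [Fintype G]

open Classical in
theorem mem_ncl (N : Subgroup G) (c z : G) : z ∈ ncl N c ↔ ∃ n ∈ N, z = n * c * n⁻¹ := by
  unfold ncl
  rw [Finset.mem_filter]
  simp only [Finset.mem_univ, true_and]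

theorem ncl_eq_of_mem (N : Subgroup G) {c c' : G} (h : c' ∈ ncl N c) : ncl N c' = ncl N c := by
  obtain ⟨n, hn, rfl⟩ := (mem_ncl N c c').mp h
  ext z
  rw [mem_ncl, mem_ncl]
  constructor
  · rintro ⟨m, hm, rfl⟩
    exact ⟨m * n, N.mul_mem hm hn, by group⟩
  · rintro ⟨m, hm, rfl⟩
    exact ⟨m * n⁻¹, N.mul_mem hm (N.inv_mem hn), by group⟩

theorem eq_one_of_isConj_one {u : G} (h : IsConj u 1) : u = 1 := by
  obtain ⟨c, hc⟩ := isConj_iff.mp h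
  calc u = c⁻¹ * (c * u * c⁻¹) * c := by group
    _ = 1 := by rw [hc]; group

theorem sq_conj (u z : G) (hu : u ^ 2 = 1) (h : IsConj u z) : z ^ 2 = 1 := by
  obtain ⟨c, rfl⟩ := isConj_iff.mp h
  rw [conj_pow, hu]
  group

theorem isConj_conj_self (n c : G) : IsConj (n * c * n⁻¹) c :=
  isConj_iff.mpr ⟨n⁻¹, by group⟩

theorem sum_restrict (N : Subgroup G) (E : G → G → ℂ)
    (hE : ∀ u₁ u₂, u₁ ^ 2 = 1 → u₂ ^ 2 = 1 → E u₁ u₂ ≠ 0 → u₁ ∈ N ∧ u₂ ∈ N)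
    (Cu Cv Du Dv : Finset G) (hCu : ∀ z ∈ Cu, z ^ 2 = 1) (hCv : ∀ z ∈ Cv, z ^ 2 = 1)
    (hDu : Du ⊆ Cu) (hDv : Dv ⊆ Cv) (hDu' : ∀ z ∈ Cu, z ∈ N → z ∈ Du)
    (hDv' : ∀ z ∈ Cv, z ∈ N → z ∈ Dv) :
    ∑ u₁ ∈ Cu, ∑ u₂ ∈ Cv, E u₁ u₂ = ∑ u₁ ∈ Du, ∑ u₂ ∈ Dv, E u₁ u₂ := by
  have h1 : ∑ u₁ ∈ Du, ∑ u₂ ∈ Cv, E u₁ u₂ = ∑ u₁ ∈ Cu, ∑ u₂ ∈ Cv, E u₁ u₂ := by
    apply Finset.sum_subset hDu
    intro u₁ hu₁ hu₁'
    apply Finset.sum_eq_zero
    intro u₂ hu₂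
    by_contra hne
    exact hu₁' (hDu' u₁ hu₁ (hE u₁ u₂ (hCu u₁ hu₁) (hCv u₂ hu₂) hne).1)
  rw [← h1]
  apply Finset.sum_congr rfl
  intro u₁ hu₁
  symm
  apply Finset.sum_subset hDv
  intro u₂ hu₂ hu₂'
  by_contra hne
  exact hu₂' (hDv' u₂ hu₂ (hE u₁ u₂ (hCu u₁ (hDu hu₁)) (hCv u₂ hu₂) hne).2)

end

theorem main (hPAIRSUM2 : PAIRSUM2.{u}) (hFIB2b : FIB2b.{u}) (hRED2 : RED2.{u})
    (hINVCL : INVCL.{u}) (hNF : NF.{u}) (hLOCaa : LOCaa.{u}) (hLOCaw : LOCaw.{u})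
    (hLOCaz : LOCaz.{u}) (hLOCww : LOCww.{u}) (hLOCwz : LOCwz.{u}) (hLOCzw : LOCzw.{u})
    (hLOCzz : LOCzz.{u}) : CS3.{u} := by
  intro G _ _ T N x y a b w hC f g hOm hnaw hwz
  classical
  have ha2 : a ^ 2 = 1 := hC.a2
  have hw2 : w ^ 2 = 1 := hC.w2
  have ha1 : a ≠ 1 := by
    intro h
    have h1 := hC.ax
    rw [h] at h1
    have h2 : x = x⁻¹ := by simpa using h1
    have h3 : x * x = 1 := by
      calc x * x = x * x⁻¹ := by rw [← h2]
        _ = 1 := mul_inv_cancel x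
    have h4 := hC.x3
    rw [pow_succ, pow_two, h3, one_mul] at h4
    exact hC.x1 h4
  have hw1 : w ≠ 1 := by
    intro h
    have h1 := hC.wx
    rw [h] at h1
    have h2 : x = y := by simpa using h1
    exact hC.yx (by rw [← h2]; exact Subgroup.mem_zpowers x)
  have hconjN : ∀ c z : G, z ∈ ncl N c → IsConj c z := by
    intro c z hz
    obtain ⟨n, -, rfl⟩ := (mem_ncl N c z).mp hz
    exact isConj_iff.mpr ⟨n, rfl⟩
  have hcard : Nat.card ↥(Subgroup.centralizer ({x} : Set G)) = 18 := (hNF hC).2.2.2.2.2.2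
  have hH18 : (Nat.card ↥(Subgroup.centralizer ({x} : Set G)) : ℂ) = 18 := by
    rw [hcard]
    norm_num
  have hn0 : (Nat.card G : ℂ) ≠ 0 := by
    have : 0 < Nat.card G := Nat.card_pos
    exact_mod_cast this.ne'
  -- one entry
  have entry : ∀ (θ : ↥(Subgroup.centralizer ({x} : Set G)) → ℂ),
      (∀ u₁ u₂ : G, u₁ ^ 2 = 1 → u₂ ^ 2 = 1 →
        extendByZero (Subgroup.centralizer ({x} : Set G)) θ (u₁ * u₂) ≠ 0 → u₁ ∈ N ∧ u₂ ∈ N) →
      ∀ (u v : G) (Du Dv : Finset G), u ^ 2 = 1 → v ^ 2 = 1 →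
      (∀ z ∈ Du, IsConj u z) → (∀ z ∈ Dv, IsConj v z) →
      (∀ z, IsConj u z → z ∈ N → z ∈ Du) → (∀ z, IsConj v z → z ∈ N → z ∈ Dv) →
      bb (indFun (Subgroup.centralizer ({x} : Set G)) θ) u v =
        (Nat.card G : ℂ)⁻¹ * ((18 : ℂ)⁻¹ * (cz u * cz v *
          ∑ u₁ ∈ Du, ∑ u₂ ∈ Dv,
            extendByZero (Subgroup.centralizer ({x} : Set G)) θ (u₁ * u₂))) := by
    intro θ hE u v Du Dv hu hv hDu hDv hDu' hDv'
    obtain ⟨Cu, Cv, hCu, hCv, hbb⟩ :=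
      bb_formula hPAIRSUM2 hFIB2b (Subgroup.centralizer ({x} : Set G)) θ u v
    have hr : ∑ u₁ ∈ Cu, ∑ u₂ ∈ Cv,
          extendByZero (Subgroup.centralizer ({x} : Set G)) θ (u₁ * u₂) =
        ∑ u₁ ∈ Du, ∑ u₂ ∈ Dv,
          extendByZero (Subgroup.centralizer ({x} : Set G)) θ (u₁ * u₂) :=
      sum_restrict N
        (fun u₁ u₂ => extendByZero (Subgroup.centralizer ({x} : Set G)) θ (u₁ * u₂)) hE
        Cu Cv Du Dv (fun z hz => sq_conj u z hu ((hCu z).mp hz))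
        (fun z hz => sq_conj v z hv ((hCv z).mp hz))
        (fun z hz => (hCu z).mpr (hDu z hz)) (fun z hz => (hCv z).mpr (hDv z hz))
        (fun z hz hzN => hDu' z ((hCu z).mp hz) hzN)
        (fun z hz hzN => hDv' z ((hCv z).mp hz) hzN)
    rw [hbb, hH18, hr]
  -- the `N`-classes inside the `G`-classes of `a` and `w`
  have hDa1 : ∀ z ∈ ncl N a, IsConj a z := fun z hz => hconjN a z hz
  have hDa2 : ∀ z, IsConj a z → z ∈ N → z ∈ ncl N a := by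
    intro z hz hzN
    have hz2 := sq_conj a z ha2 hz
    rcases hINVCL hC z hzN hz2 with h | ⟨n, hn, h⟩ | ⟨n, hn, h⟩ | ⟨n, hn, h⟩
    · exfalso
      rw [h] at hz
      exact ha1 (eq_one_of_isConj_one hz)
    · exact (mem_ncl N a z).mpr ⟨n, hn, h⟩
    · exfalso
      rw [h] at hz
      exact hnaw (hz.trans (isConj_conj_self n w))
    · exfalso
      rw [h] at hz
      exact hnaw ((hz.trans (isConj_conj_self n (a * b))).trans hwz.symm)
  have hDw1 : ∀ z ∈ ncl N w ∪ ncl N (a * b), IsConj w z := by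
    intro z hz
    rcases Finset.mem_union.mp hz with h | h
    · exact hconjN w z h
    · exact hwz.trans (hconjN (a * b) z h)
  have hDw2 : ∀ z, IsConj w z → z ∈ N → z ∈ ncl N w ∪ ncl N (a * b) := by
    intro z hz hzN
    have hz2 := sq_conj w z hw2 hz
    rcases hINVCL hC z hzN hz2 with h | ⟨n, hn, h⟩ | ⟨n, hn, h⟩ | ⟨n, hn, h⟩
    · exfalso
      rw [h] at hz
      exact hw1 (eq_one_of_isConj_one hz)
    · exfalso
      rw [h] at hz
      exact hnaw ((hz.trans (isConj_conj_self n a)).symm)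
    · exact Finset.mem_union_left _ ((mem_ncl N w z).mpr ⟨n, hn, h⟩)
    · exact Finset.mem_union_right _ ((mem_ncl N (a * b) z).mpr ⟨n, hn, h⟩)
  have hdisj : Disjoint (ncl N w) (ncl N (a * b)) := by
    rw [Finset.disjoint_left]
    intro z hz1 hz2
    have e : ncl N w = ncl N (a * b) := (ncl_eq_of_mem N hz1).symm.trans (ncl_eq_of_mem N hz2)
    have h18 := (hLOCww hC f g hOm).1
    have h81 := (hLOCzz hC f g hOm).1
    unfold lsum at h18 h81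
    rw [e] at h18
    have h : (18 : ℂ) = 81 := h18.symm.trans h81
    norm_num at h
  -- the three entries for a function with given local sums
  have tables : ∀ (θ : ↥(Subgroup.centralizer ({x} : Set G)) → ℂ),
      (∀ u₁ u₂ : G, u₁ ^ 2 = 1 → u₂ ^ 2 = 1 →
        extendByZero (Subgroup.centralizer ({x} : Set G)) θ (u₁ * u₂) ≠ 0 → u₁ ∈ N ∧ u₂ ∈ N) →
      ∀ (vaa vaw vaz vww vwz vzw vzz : ℂ),
      lsum N (Subgroup.centralizer ({x} : Set G)) θ a a = vaa →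
      lsum N (Subgroup.centralizer ({x} : Set G)) θ a w = vaw →
      lsum N (Subgroup.centralizer ({x} : Set G)) θ a (a * b) = vaz →
      lsum N (Subgroup.centralizer ({x} : Set G)) θ w w = vww →
      lsum N (Subgroup.centralizer ({x} : Set G)) θ w (a * b) = vwz →
      lsum N (Subgroup.centralizer ({x} : Set G)) θ (a * b) w = vzw →
      lsum N (Subgroup.centralizer ({x} : Set G)) θ (a * b) (a * b) = vzz →
      bb (indFun (Subgroup.centralizer ({x} : Set G)) θ) a a =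
          (Nat.card G : ℂ)⁻¹ * ((18 : ℂ)⁻¹ * (cz a * cz a * vaa)) ∧
        bb (indFun (Subgroup.centralizer ({x} : Set G)) θ) a w =
          (Nat.card G : ℂ)⁻¹ * ((18 : ℂ)⁻¹ * (cz a * cz w * (vaw + vaz))) ∧
        bb (indFun (Subgroup.centralizer ({x} : Set G)) θ) w w =
          (Nat.card G : ℂ)⁻¹ * ((18 : ℂ)⁻¹ * (cz w * cz w * (vww + vwz + (vzw + vzz)))) := by
    intro θ hE vaa vaw vaz vww vwz vzw vzz haa haw haz hww hwz' hzw hzz
    unfold lsum at haa haw haz hww hwz' hzw hzz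
    refine ⟨?_, ?_, ?_⟩
    · rw [entry θ hE a a (ncl N a) (ncl N a) ha2 ha2 hDa1 hDa1 hDa2 hDa2, haa]
    · rw [entry θ hE a w (ncl N a) (ncl N w ∪ ncl N (a * b)) ha2 hw2 hDa1 hDw1 hDa2 hDw2]
      have e : ∑ u₁ ∈ ncl N a, ∑ u₂ ∈ ncl N w ∪ ncl N (a * b),
            extendByZero (Subgroup.centralizer ({x} : Set G)) θ (u₁ * u₂) = vaw + vaz := by
        rw [← haw, ← haz, ← Finset.sum_add_distrib]
        apply Finset.sum_congr rfl
        intro u₁ _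
        exact Finset.sum_union hdisj
      rw [e]
    · rw [entry θ hE w w (ncl N w ∪ ncl N (a * b)) (ncl N w ∪ ncl N (a * b)) hw2 hw2 hDw1 hDw1
        hDw2 hDw2]
      have e : ∑ u₁ ∈ ncl N w ∪ ncl N (a * b), ∑ u₂ ∈ ncl N w ∪ ncl N (a * b),
            extendByZero (Subgroup.centralizer ({x} : Set G)) θ (u₁ * u₂) =
          vww + vwz + (vzw + vzz) := by
        rw [Finset.sum_union hdisj, ← hww, ← hwz', ← hzw, ← hzz, ← Finset.sum_add_distrib,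
          ← Finset.sum_add_distrib]
        congr 1
        · apply Finset.sum_congr rfl
          intro u₁ _
          exact Finset.sum_union hdisj
        · apply Finset.sum_congr rfl
          intro u₁ _
          exact Finset.sum_union hdisj
      rw [e]
  have hE1 : ∀ u₁ u₂ : G, u₁ ^ 2 = 1 → u₂ ^ 2 = 1 →
      extendByZero (Subgroup.centralizer ({x} : Set G)) (ph1 x f) (u₁ * u₂) ≠ 0 →
      u₁ ∈ N ∧ u₂ ∈ N :=
    fun u₁ u₂ h1 h2 hne => hRED2 hC f g hOm u₁ u₂ h1 h2 (Or.inl hne)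
  have hE2 : ∀ u₁ u₂ : G, u₁ ^ 2 = 1 → u₂ ^ 2 = 1 →
      extendByZero (Subgroup.centralizer ({x} : Set G)) (ph2 x f g) (u₁ * u₂) ≠ 0 →
      u₁ ∈ N ∧ u₂ ∈ N :=
    fun u₁ u₂ h1 h2 hne => hRED2 hC f g hOm u₁ u₂ h1 h2 (Or.inr hne)
  obtain ⟨t1, t2, t3⟩ := tables (ph1 x f) hE1 9 0 27 18 0 0 81 (hLOCaa hC f g hOm).1
    (hLOCaw hC f g hOm).1 (hLOCaz hC f g hOm).1 (hLOCww hC f g hOm).1 (hLOCwz hC f g hOm).1
    (hLOCzw hC f g hOm).1 (hLOCzz hC f g hOm).1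
  obtain ⟨s1, s2, s3⟩ := tables (ph2 x f g) hE2 9 0 (-27) 18 0 0 81 (hLOCaa hC f g hOm).2
    (hLOCaw hC f g hOm).2 (hLOCaz hC f g hOm).2 (hLOCww hC f g hOm).2 (hLOCwz hC f g hOm).2
    (hLOCzw hC f g hOm).2 (hLOCzz hC f g hOm).2
  unfold Tab th1 th2
  refine ⟨⟨?_, ?_, ?_⟩, ⟨?_, ?_, ?_⟩⟩
  · rw [t1]; field_simp; ring
  · rw [t2]; field_simp; ring
  · rw [t3]; field_simp; ring
  · rw [s1]; field_simp; ring
  · rw [s2]; field_simp; ring
  · rw [s3]; field_simp; ring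

end Cfsg.Agent.Lib.Helper84.D8CS3
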