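import Mathlib
import Cfsg.Agent.Lib.Helper40.GFStmt

/-! S5886 piece ALG2 (second seat): `[L : F] = 2`, some `nu b (f • e) d 1` is not a
multiplication. -/

set_option autoImplicit false

namespace Cfsg.Agent.Lib.Helper84.GFALG2

open Cfsg.Agent.Lib.Helper40.GFStmt

universe u

/-- if `nu b (f • e) d 1` is the multiplication by `c'` then
`f b(d² e) = 2 d (f b(d e)) + (f b(d e))²` -/
theorem key {F L : Type u} [Field F] [Field L] [Algebra F L] (e : L) (b : L →ₗ[F] F)
    (he : e ≠ 0) (hbe : b e = 0) (f : F) (hf : f ≠ 0) (d c' : L)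
    (h : nu b (f • e) d 1 = LinearMap.mulLeft F c') :
    algebraMap F L (f * b (d * (d * e))) =
      2 * d * algebraMap F L (f * b (d * e)) + algebraMap F L (f * b (d * e)) ^ 2 := by
  have he' : f • e ≠ 0 := smul_ne_zero hf he
  have hbe' : b (f • e) = 0 := by rw [map_smul, hbe, smul_zero]
  have h1 := LinearMap.congr_fun h (f • e)
  rw [nu_apply, LinearMap.mulLeft_apply, one_mul, hbe', zero_smul, sub_zero] at h1
  have hc' : c' = d + algebraMap F L (b (d * (f • e))) := by
    have h0 : (d + algebraMap F L (b (d * (f • e)))) * (f • e) = c' * (f • e) := by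
      rw [add_mul, ← Algebra.smul_def]; exact h1
    exact (mul_right_cancel₀ he' h0).symm
  have h2 := LinearMap.congr_fun h (c' * (f • e))
  rw [nu_apply, LinearMap.mulLeft_apply, one_mul] at h2
  have hb2 : b (c' * (f • e)) = b (d * (f • e)) := by
    rw [hc', add_mul, ← Algebra.smul_def, map_add, map_smul, hbe', smul_zero, add_zero]
  have hx : c' * (f • e) - b (c' * (f • e)) • (f • e) = d * (f • e) := by
    rw [hb2]
    have : c' * (f • e) = d * (f • e) + b (d * (f • e)) • (f • e) := by
      rw [hc', add_mul, ← Algebra.smul_def]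
    rw [this]; abel
  rw [hx] at h2
  have h3 : (d * d + algebraMap F L (b (d * (d * (f • e))))) * (f • e) =
      (c' * c') * (f • e) := by
    rw [add_mul, ← Algebra.smul_def, mul_assoc, mul_assoc]; exact h2
  have h4 := mul_right_cancel₀ he' h3
  have e1 : d * (f • e) = f • (d * e) := mul_smul_comm f d e
  have e2 : d * (d * (f • e)) = f • (d * (d * e)) := by rw [e1, mul_smul_comm]
  rw [e2, map_smul, smul_eq_mul] at h4
  rw [hc', e1, map_smul, smul_eq_mul] at h4
  linear_combination h4

theorem main : Alg2.{u} := by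
  intro F L _ _ _ _ hr hF e b he hb hbe
  obtain ⟨d, hd⟩ : ∃ d : L, b (d * e) ≠ 0 := by
    by_contra hcon
    push_neg at hcon
    apply hb
    apply LinearMap.ext
    intro x
    have h := hcon (x / e)
    rw [div_mul_cancel₀ x he] at h
    rw [h]; rfl
  by_cases h2 : (2 : F) = 0
  · have hF2 : 2 < Nat.card F := hF.resolve_left (not_not.mpr h2)
    have h2L : (2 : L) = 0 := by
      have h := congrArg (algebraMap F L) h2
      rwa [map_ofNat, map_zero] at h
    obtain ⟨f, hf0, hf1⟩ : ∃ f : F, f ≠ 0 ∧ f ≠ 1 := by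
      by_contra hcon
      push_neg at hcon
      have hsub : (Set.univ : Set F) ⊆ {0, 1} := by
        intro f _
        by_cases hf : f = 0
        · simp [hf]
        · simp [hcon f hf]
      have hle : Nat.card F ≤ 2 := by
        rw [← Set.ncard_univ]
        exact (Set.ncard_le_ncard hsub (Set.toFinite _)).trans
          (by rw [Set.ncard_pair zero_ne_one])
      omega
    have hkey2 : ∀ f : F, f ≠ 0 → (∃ c' : L, nu b (f • e) d 1 = LinearMap.mulLeft F c') →
        b (d * (d * e)) = f * b (d * e) ^ 2 := by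
      rintro f hf ⟨c', hc'⟩
      have hk := key e b he hbe f hf d c' hc'
      rw [h2L, zero_mul, zero_mul, zero_add, ← map_pow] at hk
      have h0 := (algebraMap F L).injective hk
      have h' : f * b (d * (d * e)) = f * (f * b (d * e) ^ 2) := by rw [h0]; ring
      exact mul_left_cancel₀ hf h'
    by_contra hcon
    push_neg at hcon
    have e1 := hkey2 1 one_ne_zero (hcon 1 d)
    have e2 := hkey2 f hf0 (hcon f d)
    rw [e1] at e2
    have hβ2 : b (d * e) ^ 2 ≠ 0 := pow_ne_zero 2 hd
    exact hf1 (mul_right_cancel₀ hβ2 e2).symm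
  · refine ⟨1, d, fun c' hc' => ?_⟩
    have hk := key e b he hbe 1 one_ne_zero d c' hc'
    rw [one_mul, one_mul] at hk
    have hne : (2 * b (d * e) : F) ≠ 0 := mul_ne_zero h2 hd
    have h : d * algebraMap F L (2 * b (d * e)) =
        algebraMap F L (b (d * (d * e)) - b (d * e) ^ 2) := by
      rw [map_sub, map_mul, map_pow, map_ofNat]
      linear_combination -hk
    obtain ⟨s, hs⟩ : ∃ s : F, d = algebraMap F L s := by
      refine ⟨(b (d * (d * e)) - b (d * e) ^ 2) / (2 * b (d * e)), ?_⟩
      rw [map_div₀, eq_div_iff ((map_ne_zero _).mpr hne)]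
      exact h
    apply hd
    rw [hs, ← Algebra.smul_def, map_smul, hbe, smul_zero]

end Cfsg.Agent.Lib.Helper84.GFALG2
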