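import Mathlib
import Cfsg.Agent.Lib.Helper88.ORStmt
import Cfsg.Agent.S5140
import Cfsg.Agent.S5141
import Cfsg.Agent.S5142

/-! S5202 piece CASEB (helper84): for `F₁` normal in `F` over the same `S`, the `p'`-residual of
`F` is the `p'`-residual of `F₁`. -/

set_option autoImplicit false
open Cfsg

namespace Cfsg.Agent.Lib.Helper84.ORCASEB

open Cfsg.FusionSystem Cfsg.Agent.Lib.Helper88.ORStmt

universe u

theorem main (hSELF : SelfNormal.{u}) : RLCaseB.{u} := by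
  intro Ω _ S _ p _ hS F hF F₁ Y hF₁ hY
  have hF₁sat : F₁.IsSaturated p := hF₁.1.1
  have hF₁F : F₁.IsSubsystemOf F := hF₁.1.2.2.1
  have hFF : F.IsNormalIn F p := hSELF p hS F hF
  have hYF₁ : Y.IsSubsystemOf F₁ := Cfsg.Agent.S5142.result p hS F hF F hFF Y hY F₁ hF₁
  refine ⟨hY.1, ⟨hYF₁, fun P hP => ?_⟩, fun D hD hDi => ?_⟩
  · rw [Subgroup.map_le_iff_le_comap, Subgroup.closure_le]
    intro α hα
    obtain ⟨k, hk⟩ := hα
    show ((F₁.autGroup P).subtype α) ∈ Y.autGroup P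
    have hmono : F₁.autGroup P ≤ F.autGroup P := by
      apply Subgroup.closure_mono
      intro β hβ
      exact hF₁F P hβ
    have hαF : (α : MulAut P) ∈ F.autGroup P := hmono α.2
    apply hY.2.1.2 P hP
    refine ⟨⟨(α : MulAut P), hαF⟩, Subgroup.subset_closure ⟨k, ?_⟩, rfl⟩
    rw [← hk, ← Subgroup.orderOf_coe, ← Subgroup.orderOf_coe α]
  · obtain ⟨R, hR⟩ := Cfsg.Agent.S5140.result p hS F₁ hF₁sat
    have hRn : R.IsNormalIn F p := Cfsg.Agent.S5141.result p hS F hF F₁ hF₁.1 R hR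
    have hYR : Y.IsSubsystemOf R := Cfsg.Agent.S5142.result p hS F hF F hFF Y hY R hRn
    have hRD : R.IsSubsystemOf D := hR.2.2 D hD hDi
    exact fun P => (hYR P).trans (hRD P)

end Cfsg.Agent.Lib.Helper84.ORCASEB
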