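import Cfsg.Agent.Lib.Helper88.ORStmt
import Cfsg.Agent.H85.Factor
import Cfsg.Agent.S5134

/-! S5202 piece EXTT: maps of a saturated system are covered modulo a strongly closed subgroup. -/

set_option autoImplicit false

namespace Cfsg.Agent.Lib.Helper84.OREXTT

open Cfsg Cfsg.FusionSystem Cfsg.Agent.Lib.Helper88.ORStmt

universe u

theorem transport {Ω : Type u} [Group Ω] {S : Subgroup Ω} (F : FusionSystem S) {Q R : Subgroup Ω}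
    (h : Q = R) (ψ₀ : Q →* Ω) (hψ₀ : ψ₀ ∈ F.Hom Q) :
    ∃ ψ ∈ F.Hom R, ∀ (x : Ω) (hx : x ∈ Q) (hx' : x ∈ R), ψ ⟨x, hx'⟩ = ψ₀ ⟨x, hx⟩ := by
  subst h; exact ⟨ψ₀, hψ₀, fun _ _ _ => rfl⟩

theorem main : ExtModT.{u} := by
  intro Ω _ S _ p _ hS F hF T hT P φ hφ
  have hPS : P ≤ S := (F.le_of_mem hφ).1
  have hTS : T ≤ S := hT.1
  haveI hN : (T.subgroupOf S).Normal := by
    constructor
    intro n hn g
    rw [Subgroup.mem_subgroupOf] at hn ⊢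
    exact hT.2 T le_rfl (conjHom T (g : Ω)) (F.conj_mem hT.1 g.2) ⟨n, hn⟩
  let θ : S →* S ⧸ T.subgroupOf S := QuotientGroup.mk' _
  have hker : ∀ s : S, θ s = 1 ↔ (s : Ω) ∈ T := by
    intro s
    show (QuotientGroup.mk' (T.subgroupOf S)) s = 1 ↔ _
    rw [QuotientGroup.mk'_apply, QuotientGroup.eq_one_iff, Subgroup.mem_subgroupOf]
  obtain ⟨E, hE⟩ := Cfsg.Agent.H85.exists_factorSystem F T hT θ hker ⊤
    (by rw [MonoidHom.range_eq_top]; exact QuotientGroup.mk'_surjective _)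
  have hsm := Cfsg.Agent.S5134.result p hS F hF T hT θ E hE
  obtain ⟨φ', hφ', hind⟩ := hsm.1.2 P φ hφ
  obtain ⟨-, ψ₀, hψ₀, hind₀⟩ := (hE.2.2.2 _ φ').mp hφ'
  have hEq : preimageAlong θ (imageAlong θ P) = P ⊔ T := by
    apply le_antisymm
    · intro x hx
      obtain ⟨hxS, hx2⟩ := (Cfsg.Agent.H85.mem_preimageAlong θ _ x).mp hx
      obtain ⟨y, hy, hyx⟩ := hx2
      have hy : (y : Ω) ∈ P := Subgroup.mem_subgroupOf.mp hy
      have h1 : θ (y⁻¹ * ⟨x, hxS⟩) = 1 := by rw [map_mul, map_inv, hyx, inv_mul_cancel]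
      have h2 : (y : Ω)⁻¹ * x ∈ T := (hker _).mp h1
      have h3 : x = (y : Ω) * ((y : Ω)⁻¹ * x) := by group
      rw [h3]
      exact Subgroup.mul_mem_sup hy h2
    · refine sup_le ?_ ?_
      · intro x hx
        exact (Cfsg.Agent.H85.mem_preimageAlong θ _ x).mpr
          ⟨hPS hx, ⟨⟨x, hPS hx⟩, Subgroup.mem_subgroupOf.mpr hx, rfl⟩⟩
      · intro x hx
        refine (Cfsg.Agent.H85.mem_preimageAlong θ _ x).mpr ⟨hTS hx, ?_⟩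
        rw [(hker ⟨x, hTS hx⟩).mpr hx]
        exact Subgroup.one_mem _
  obtain ⟨ψ, hψ, hψe⟩ := transport F hEq ψ₀ hψ₀
  refine ⟨ψ, hψ, fun x => ?_⟩
  obtain ⟨hP1, hφS, hP', hi⟩ := hind
  obtain ⟨hQ1, hψS, hQ', hi₀⟩ := hind₀
  have hxQ : (x : Ω) ∈ preimageAlong θ (imageAlong θ P) := by
    rw [hEq]; exact Subgroup.mem_sup_left x.2
  have e1 : ψ (Subgroup.inclusion le_sup_left x) = ψ₀ ⟨x, hxQ⟩ := hψe x hxQ _
  rw [e1]
  have h1 := hi x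
  have h2 := hi₀ ⟨x, hxQ⟩
  have h3 : θ ⟨φ x, hφS x⟩ = θ ⟨ψ₀ ⟨x, hxQ⟩, hψS _⟩ := by rw [← h1, ← h2]
  have h4 : θ ((⟨φ x, hφS x⟩ : S)⁻¹ * ⟨ψ₀ ⟨x, hxQ⟩, hψS _⟩) = 1 := by
    rw [map_mul, map_inv, h3, inv_mul_cancel]
  exact (hker _).mp h4

end Cfsg.Agent.Lib.Helper84.OREXTT
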