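-- Piece S4020/EXPAB: a Sylow subgroup of exponent `p` is abelian (from Big and NoExtra).
import Mathlib
import Cfsg.Agent.Lib.Helper1.PDStmt

set_option autoImplicit false

namespace Cfsg.Agent.Lib.Helper84.PDEXPAB

open Cfsg.Agent.Lib.Helper1.PDStmt

universe u

theorem main (hB : Big.{u}) (hN : NoExtra.{u}) : ExpAb.{u} := by
  intro G _ _ hD p _ P hexp a ha b hb
  obtain ⟨k, hk⟩ : ∃ k, Nat.card ↥(P : Subgroup G) = p ^ k := ⟨_, Sylow.card_eq_multiplicity P⟩
  rcases Nat.lt_or_ge k 3 with h3 | h3
  · have key : ∀ x y : ↥(P : Subgroup G), x * y = y * x := by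
      interval_cases k
      · intro x y
        have hsub : Subsingleton ↥(P : Subgroup G) :=
          (Nat.card_eq_one_iff_unique.mp (by simpa using hk)).1
        exact Subsingleton.elim _ _
      · have hc : IsCyclic ↥(P : Subgroup G) :=
          isCyclic_of_prime_card (p := p) (by simpa using hk)
        intro x y
        obtain ⟨g, hg⟩ := hc.exists_generator
        obtain ⟨m, rfl⟩ := Subgroup.mem_zpowers_iff.mp (hg x)
        obtain ⟨n, rfl⟩ := Subgroup.mem_zpowers_iff.mp (hg y)
        exact (Commute.zpow_zpow_self g m n).eq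
      · exact IsPGroup.commutative_of_card_eq_prime_sq hk
    exact congrArg Subtype.val (key ⟨a, ha⟩ ⟨b, hb⟩)
  · rcases Nat.eq_or_lt_of_le h3 with h3' | h4
    · exact hN G hD p P (by rw [hk, ← h3']) hexp a ha b hb
    · exact hB G hD p P hexp (by rw [hk]; exact pow_dvd_pow p h4) a ha b hb
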