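import Mathlib
import Cfsg.Agent.Lib.Helper56.PEStmt

/-!
# S2276: shared helper lemmas for the `Case2A`, `Case2B`, `Case3`, `Core3` pieces (helper84)
-/

set_option autoImplicit false

namespace Cfsg.Agent.Lib.Helper84.PEAux

open Equiv Equiv.Perm
open Cfsg.Agent.Lib.Helper56

/-- `Good` lifts along an injective equivariant map. -/
theorem good_lift (hRP : PEStmt.RP) (hRNS : PEStmt.RNS) {α β : Type} (ι : β → α)
    (hι : Function.Injective ι) (p : ℕ) (hp : p.Prime) (f g : Perm β) (A B : Perm α)
    (hA : ∀ b, A (ι b) = ι (f b)) (hB : ∀ b, B (ι b) = ι (g b)) (h : PEStmt.Good p f g) :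
    PEStmt.Good p A B := by
  refine ⟨hRP ι hι p hp (f * g) (A * B) (fun b => ?_) h.1,
    hRNS ι hι f g A B hA hB h.2 _ (Subgroup.subset_closure (by simp))
      (Subgroup.subset_closure (by simp))⟩
  simp [Perm.mul_apply, hA, hB]

theorem exists_conj {α : Type} [DecidableEq α] [Fintype α] (τ τ' : Perm α)
    (h : τ.cycleType = τ'.cycleType) : ∃ g : Perm α, g * τ * g⁻¹ = τ' :=
  isConj_iff.1 (isConj_iff_cycleType_eq.2 h)

/-- A permutation of prescribed cycle type fixing a given finite set pointwise. -/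
theorem exists_off {α : Type} [DecidableEq α] [Fintype α] (s : Finset α) (m : Multiset ℕ)
    (hm : ∀ a ∈ m, 2 ≤ a) (hsum : m.sum + s.card ≤ Fintype.card α) :
    ∃ ρ : Perm α, ρ.cycleType = m ∧ ∀ y ∈ s, ρ y = y := by
  have hcard : Fintype.card {y // y ∉ s} = Fintype.card α - s.card := by
    rw [Fintype.card_subtype_compl]
    simp
  obtain ⟨ρ₀, hρ₀⟩ := (Equiv.Perm.exists_with_cycleType_iff {y // y ∉ s} (m := m)).2
    ⟨by omega, hm⟩
  refine ⟨ofSubtype ρ₀, by rw [cycleType_ofSubtype, hρ₀], fun y hy =>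
    ofSubtype_apply_of_not_mem _ (by simpa using hy)⟩

/-- The map `Fin n → α` listing a list of length `n`. -/
def iota {α : Type} (l : List α) (n : ℕ) (hn : l.length = n) : Fin n → α :=
  fun i => l.get (Fin.cast hn.symm i)

theorem iota_inj {α : Type} (l : List α) (n : ℕ) (hn : l.length = n) (hl : l.Nodup) :
    Function.Injective (iota l n hn) := by
  intro i j h
  have := (List.Nodup.get_inj_iff hl).1 h
  simpa using this

theorem card_image_iota {α : Type} [DecidableEq α] (l : List α) (n : ℕ) (hn : l.length = n)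
    (hl : l.Nodup) : (Finset.univ.image (iota l n hn)).card = n := by
  rw [Finset.card_image_of_injective _ (iota_inj l n hn hl), Finset.card_univ, Fintype.card_fin]

/-- Orbit of a non-fixed point under an element of order 3. -/
theorem orbit3 {α : Type} (σ : Perm α) (hpow : σ ^ 3 = 1) (y : α) (hy : σ y ≠ y) :
    σ (σ (σ y)) = y ∧ y ≠ σ y ∧ y ≠ σ (σ y) ∧ σ y ≠ σ (σ y) := by
  have hy3 : ∀ z, σ (σ (σ z)) = z := by
    intro z
    have := congrArg (fun f : Perm α => f z) hpow
    simpa [pow_succ, Perm.mul_apply] using this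
  refine ⟨hy3 y, fun h => hy h.symm, fun h => ?_, fun h => hy (σ.injective h).symm⟩
  apply hy
  have := congrArg σ h
  rw [hy3] at this
  exact this

end Cfsg.Agent.Lib.Helper84.PEAux
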