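import Mathlib

/-!
# S2276: helper for the explicit pieces (helper84)
-/

set_option autoImplicit false

namespace Cfsg.Agent.Lib.Helper84.PEAux2

/-- An element `w ≠ 1` with `w ^ n = 1`, `3 ∤ n`, does not have `3`-power order. -/
theorem not_pow3 {G : Type} [Group G] (w : G) (n : ℕ) (hn : w ^ n = 1) (h3 : ¬ 3 ∣ n)
    (hw : w ≠ 1) : ¬ ∃ k : ℕ, orderOf w = 3 ^ k := by
  rintro ⟨k, hk⟩
  have hd : orderOf w ∣ n := orderOf_dvd_of_pow_eq_one hn
  rcases k with _ | k
  · rw [pow_zero, orderOf_eq_one_iff] at hk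
    exact hw hk
  · exact h3 (dvd_trans (by rw [hk]; exact dvd_pow_self 3 (by omega)) hd)

end Cfsg.Agent.Lib.Helper84.PEAux2
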