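import Mathlib
import Cfsg.Agent.Lib.Helper56.PEStmt
import Cfsg.Agent.Lib.Helper84.PEAux2

/-!
# S2276 piece C5 (helper84, second seat)
-/

set_option autoImplicit false
set_option maxRecDepth 100000

namespace Cfsg.Agent.Lib.Helper84.PEC5

open Equiv Equiv.Perm
open Cfsg.Agent.Lib.Helper56

/-- `(0 1 2)` on `Fin 5`. -/
def f : Perm (Fin 5) := swap 0 1 * swap 1 2
/-- `(2 3 4)` on `Fin 5`. -/
def g : Perm (Fin 5) := swap 2 3 * swap 3 4

theorem main (hNSC : PEStmt.NSCert) : PEStmt.C5 := by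
  show PEStmt.Good 3 f g
  refine ⟨PEAux2.not_pow3 (f * g) 5 (by decide) (by norm_num) (by decide), ?_⟩
  have hf : f ∈ Subgroup.closure ({f, g} : Set (Perm (Fin 5))) :=
    Subgroup.subset_closure (by simp)
  have hg : g ∈ Subgroup.closure ({f, g} : Set (Perm (Fin 5))) :=
    Subgroup.subset_closure (by simp)
  exact hNSC _ f (g * f⁻¹ * g) g hf
    (Subgroup.mul_mem _ (Subgroup.mul_mem _ hg (Subgroup.inv_mem _ hf)) hg) hg
    (by decide) (by decide)

end Cfsg.Agent.Lib.Helper84.PEC5
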