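import Mathlib
import Cfsg.Agent.Lib.Helper56.PEStmt
import Cfsg.Agent.Lib.Helper84.PEAux2

/-!
# S2276 piece C6B (helper84, second seat)
-/

set_option autoImplicit false
set_option maxRecDepth 100000

namespace Cfsg.Agent.Lib.Helper84.PEC6B

open Equiv Equiv.Perm
open Cfsg.Agent.Lib.Helper56

/-- `(0 1 3)(2 5 4)` on `Fin 6`. -/
def g : Perm (Fin 6) := swap 0 1 * swap 1 3 * (swap 2 5 * swap 5 4)

theorem main (hNSC : PEStmt.NSCert) : PEStmt.C6B := by
  show PEStmt.Good 3 PEStmt.f6 g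
  refine ⟨PEAux2.not_pow3 (PEStmt.f6 * g) 5 (by decide) (by norm_num) (by decide), ?_⟩
  have hf : PEStmt.f6 ∈ Subgroup.closure ({PEStmt.f6, g} : Set (Perm (Fin 6))) :=
    Subgroup.subset_closure (by simp)
  have hg : g ∈ Subgroup.closure ({PEStmt.f6, g} : Set (Perm (Fin 6))) :=
    Subgroup.subset_closure (by simp)
  exact hNSC _ PEStmt.f6 (g * PEStmt.f6⁻¹ * g) g hf
    (Subgroup.mul_mem _ (Subgroup.mul_mem _ hg (Subgroup.inv_mem _ hf)) hg) hg
    (by decide) (by decide)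

end Cfsg.Agent.Lib.Helper84.PEC6B
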