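import Mathlib
import Cfsg.Agent.Lib.Helper56.PEStmt
import Cfsg.Agent.Lib.Helper84.PEAux

/-!
# S2276 piece CASE2A (helper84): all cycles of length 3, the first element with at least two
-/

set_option autoImplicit false

namespace Cfsg.Agent.Lib.Helper84.PECASE2A

open Equiv Equiv.Perm
open Cfsg.Agent.Lib.Helper56

theorem cyc6A : (swap (0 : Fin 6) 1 * swap 1 3 : Perm (Fin 6)).cycleType = {3} := by
  have e1 : (swap (0 : Fin 6) 1 * swap 1 3) = swap 1 0 * swap 1 3 := by rw [swap_comm]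
  rw [e1]
  exact (isThreeCycle_swap_mul_swap_same (by decide) (by decide) (by decide)).cycleType

theorem cyc6B :
    (swap (0 : Fin 6) 1 * swap 1 3 * (swap 2 5 * swap 5 4) : Perm (Fin 6)).cycleType
      = {3} + {3} := by
  have hd : Perm.Disjoint (swap (0 : Fin 6) 1 * swap 1 3) (swap 2 5 * swap 5 4) := by
    intro x
    revert x
    decide
  rw [hd.cycleType_mul, cyc6A]
  have e1 : (swap (2 : Fin 6) 5 * swap 5 4) = swap 5 2 * swap 5 4 := by rw [swap_comm]
  rw [e1, (isThreeCycle_swap_mul_swap_same (by decide) (by decide) (by decide)).cycleType]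

theorem main (hC6A : PEStmt.C6A) (hC6B : PEStmt.C6B) (hRP : PEStmt.RP) (hRNS : PEStmt.RNS) :
    PEStmt.Case2A := by
  intro α _ _ σ τ hτ1 hσ3 hτ3 h2
  have hord : orderOf σ ∣ 3 := by
    rw [← lcm_cycleType]
    exact Multiset.lcm_dvd.2 (fun b hb => by rw [hσ3 b hb])
  have hpow : σ ^ 3 = 1 := orderOf_dvd_iff_pow_eq_one.1 hord
  have hσrep : σ.cycleType = Multiset.replicate (Multiset.card σ.cycleType) 3 :=
    Multiset.eq_replicate.2 ⟨rfl, hσ3⟩
  have hsupp : 6 ≤ σ.support.card := by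
    rw [← sum_cycleType, hσrep, Multiset.sum_replicate, smul_eq_mul]
    omega
  obtain ⟨y, hy⟩ : σ.support.Nonempty := by rw [← Finset.card_pos]; omega
  have hy' : σ y ≠ y := Perm.mem_support.1 hy
  obtain ⟨hy3, h01, h02, h12⟩ := PEAux.orbit3 σ hpow y hy'
  obtain ⟨z, hzmem⟩ : (σ.support \ {y, σ y, σ (σ y)}).Nonempty := by
    rw [← Finset.card_pos]
    have h1 := Finset.le_card_sdiff ({y, σ y, σ (σ y)} : Finset α) σ.support
    have h2 : ({y, σ y, σ (σ y)} : Finset α).card ≤ 3 := Finset.card_le_three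
    omega
  rw [Finset.mem_sdiff] at hzmem
  have hz' : σ z ≠ z := Perm.mem_support.1 hzmem.1
  have c0 : z ≠ y ∧ z ≠ σ y ∧ z ≠ σ (σ y) := by
    have := hzmem.2
    simp only [Finset.mem_insert, Finset.mem_singleton, not_or] at this
    exact this
  obtain ⟨hz3, k01, k02, k12⟩ := PEAux.orbit3 σ hpow z hz'
  have c1 : σ z ≠ y ∧ σ z ≠ σ y ∧ σ z ≠ σ (σ y) := by
    refine ⟨fun h => c0.2.2 (σ.injective (h.trans hy3.symm)), fun h => c0.1 (σ.injective h),
      fun h => c0.2.1 (σ.injective h)⟩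
  have c2 : σ (σ z) ≠ y ∧ σ (σ z) ≠ σ y ∧ σ (σ z) ≠ σ (σ y) := by
    refine ⟨fun h => c1.2.2 (σ.injective (h.trans hy3.symm)), fun h => c1.1 (σ.injective h),
      fun h => c1.2.1 (σ.injective h)⟩
  have hl : [y, σ y, σ (σ y), z, σ z, σ (σ z)].Nodup := by
    simp only [List.nodup_cons, List.mem_cons, List.not_mem_nil, or_false, not_or,
      List.nodup_nil, and_true, not_false_eq_true]
    exact ⟨⟨h01, h02, c0.1.symm, c1.1.symm, c2.1.symm⟩,
      ⟨h12, c0.2.1.symm, c1.2.1.symm, c2.2.1.symm⟩,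
      ⟨c0.2.2.symm, c1.2.2.symm, c2.2.2.symm⟩, ⟨k01, k02⟩, k12⟩
  have hι : Function.Injective (PEAux.iota [y, σ y, σ (σ y), z, σ z, σ (σ z)] 6 rfl) :=
    PEAux.iota_inj _ _ _ hl
  have hcardim : (Finset.univ.image
      (PEAux.iota [y, σ y, σ (σ y), z, σ z, σ (σ z)] 6 rfl)).card = 6 :=
    PEAux.card_image_iota _ _ _ hl
  generalize hιdef : PEAux.iota [y, σ y, σ (σ y), z, σ z, σ (σ z)] 6 rfl = ι at hι hcardim
  have i0 : ι 0 = y := by rw [← hιdef]; rfl
  have i1 : ι 1 = σ y := by rw [← hιdef]; rfl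
  have i2 : ι 2 = σ (σ y) := by rw [← hιdef]; rfl
  have i3 : ι 3 = z := by rw [← hιdef]; rfl
  have i4 : ι 4 = σ z := by rw [← hιdef]; rfl
  have i5 : ι 5 = σ (σ z) := by rw [← hιdef]; rfl
  have hA : ∀ b, σ (ι b) = ι (PEStmt.f6 b) := by
    have key : ∀ b : Fin 6, PEStmt.f6 b = ![1, 2, 0, 4, 5, 3] b := by decide
    intro b
    rw [key]
    fin_cases b
    · show σ (ι 0) = ι 1
      rw [i0, i1]
    · show σ (ι 1) = ι 2
      rw [i1, i2]
    · show σ (ι 2) = ι 0
      rw [i2, i0, hy3]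
    · show σ (ι 3) = ι 4
      rw [i3, i4]
    · show σ (ι 4) = ι 5
      rw [i4, i5]
    · show σ (ι 5) = ι 3
      rw [i5, i3, hz3]
  let e : Fin 6 ≃ {a // a ∈ Set.range ι} := Equiv.ofInjective ι hι
  -- the cycle type of `τ`
  have hτrep : τ.cycleType = Multiset.replicate (Multiset.card τ.cycleType) 3 :=
    Multiset.eq_replicate.2 ⟨rfl, hτ3⟩
  have hk1 : 1 ≤ Multiset.card τ.cycleType := by
    rw [Nat.one_le_iff_ne_zero, Ne, Multiset.card_eq_zero, cycleType_eq_zero]
    exact hτ1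
  generalize hk : Multiset.card τ.cycleType = k at hτrep hk1
  rcases Nat.lt_or_ge k 2 with hk2 | hk2
  · -- one cycle
    have hk1' : k = 1 := by omega
    subst hk1'
    have hτ' : τ.cycleType = ((swap (0 : Fin 6) 1 * swap 1 3).extendDomain e).cycleType := by
      rw [cycleType_extendDomain, hτrep, cyc6A]
      rfl
    obtain ⟨g, hg⟩ := PEAux.exists_conj τ _ hτ'
    refine ⟨g, ?_⟩
    rw [hg]
    exact PEAux.good_lift hRP hRNS ι hι 3 Nat.prime_three _ _ σ _ hA
      (fun b => Perm.extendDomain_apply_image _ e b) hC6A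
  · -- at least two cycles
    obtain ⟨j, rfl⟩ : ∃ j, k = j + 2 := ⟨k - 2, by omega⟩
    have hsumτ : 3 * (j + 2) ≤ Fintype.card α := by
      have := sum_cycleType_le τ
      rw [hτrep, Multiset.sum_replicate, smul_eq_mul] at this
      omega
    obtain ⟨ρ, hρ, hρfix⟩ := PEAux.exists_off (Finset.univ.image ι) (Multiset.replicate j 3)
      (fun a ha => by rw [Multiset.eq_of_mem_replicate ha]; norm_num)
      (by rw [Multiset.sum_replicate, smul_eq_mul, hcardim]; omega)
    have hρι : ∀ b, ρ (ι b) = ι b := fun b =>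
      hρfix _ (Finset.mem_image_of_mem _ (Finset.mem_univ _))
    let τ₀ : Perm α :=
      (swap (0 : Fin 6) 1 * swap 1 3 * (swap 2 5 * swap 5 4)).extendDomain e
    have hdisj : Perm.Disjoint τ₀ ρ := by
      intro x
      by_cases hx : x ∈ Set.range ι
      · right
        obtain ⟨b, rfl⟩ := hx
        exact hρι b
      · left
        exact Perm.extendDomain_apply_not_subtype _ e hx
    have hτ' : τ.cycleType = (τ₀ * ρ).cycleType := by
      rw [hdisj.cycleType_mul, cycleType_extendDomain, hτrep, cyc6B, hρ]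
      symm
      refine Multiset.eq_replicate.2 ⟨?_, ?_⟩
      · simp
      · intro b hb
        simp only [Multiset.mem_add, Multiset.mem_singleton, Multiset.mem_replicate] at hb
        rcases hb with (hb | hb) | hb
        · exact hb
        · exact hb
        · exact hb.2
    obtain ⟨g, hg⟩ := PEAux.exists_conj τ _ hτ'
    refine ⟨g, ?_⟩
    rw [hg]
    refine PEAux.good_lift hRP hRNS ι hι 3 Nat.prime_three _ _ σ _ hA (fun b => ?_) hC6B
    rw [Perm.mul_apply, hρι b]
    exact Perm.extendDomain_apply_image _ e b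

end Cfsg.Agent.Lib.Helper84.PECASE2A
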