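import Mathlib
import Cfsg.Agent.Lib.Helper56.PEStmt
import Cfsg.Agent.Lib.Helper84.PEAux

/-!
# S2276 piece CASE2B (helper84): two 3-cycles on at least five points
-/

set_option autoImplicit false

namespace Cfsg.Agent.Lib.Helper84.PECASE2B

open Equiv Equiv.Perm
open Cfsg.Agent.Lib.Helper56

theorem main (hC5 : PEStmt.C5) (hRP : PEStmt.RP) (hRNS : PEStmt.RNS) : PEStmt.Case2B := by
  intro α _ _ σ τ hcard hσ hτ
  have h3 : σ.IsThreeCycle := hσ
  have hpow : σ ^ 3 = 1 := by rw [← h3.orderOf]; exact pow_orderOf_eq_one σ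
  have hsupp : σ.support.card = 3 := h3.card_support
  obtain ⟨y, hy⟩ : σ.support.Nonempty := by rw [← Finset.card_pos]; omega
  have hy' : σ y ≠ y := Perm.mem_support.1 hy
  obtain ⟨hy3, h01, h02, h12⟩ := PEAux.orbit3 σ hpow y hy'
  have hc : 1 < (Finset.univ \ σ.support).card := by
    rw [Finset.card_sdiff_of_subset (Finset.subset_univ _), Finset.card_univ]; omega
  obtain ⟨v, hv, v', hv', hvv'⟩ := Finset.one_lt_card.1 hc
  have hv1 : σ v = v := by simpa using hv
  have hv1' : σ v' = v' := by simpa using hv'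
  have hfix : ∀ w, σ w = w → w ≠ y ∧ w ≠ σ y ∧ w ≠ σ (σ y) := by
    intro w hw
    refine ⟨?_, ?_, ?_⟩
    · rintro rfl; exact hy' hw
    · rintro rfl; exact hy' (σ.injective hw)
    · rintro rfl; exact hy' (σ.injective (σ.injective hw))
  have hl : [y, σ y, σ (σ y), v, v'].Nodup := by
    obtain ⟨a1, a2, a3⟩ := hfix v hv1
    obtain ⟨b1, b2, b3⟩ := hfix v' hv1'
    simp only [List.nodup_cons, List.mem_cons, List.not_mem_nil, or_false, not_or,
      List.nodup_nil, and_true, not_false_eq_true]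
    exact ⟨⟨h01, h02, a1.symm, b1.symm⟩, ⟨h12, a2.symm, b2.symm⟩, ⟨a3.symm, b3.symm⟩, hvv'⟩
  have hι : Function.Injective (PEAux.iota [y, σ y, σ (σ y), v, v'] 5 rfl) :=
    PEAux.iota_inj _ _ _ hl
  generalize hιdef : PEAux.iota [y, σ y, σ (σ y), v, v'] 5 rfl = ι at hι
  have i0 : ι 0 = y := by rw [← hιdef]; rfl
  have i1 : ι 1 = σ y := by rw [← hιdef]; rfl
  have i2 : ι 2 = σ (σ y) := by rw [← hιdef]; rfl
  have i3 : ι 3 = v := by rw [← hιdef]; rfl
  have i4 : ι 4 = v' := by rw [← hιdef]; rfl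
  let e : Fin 5 ≃ {a // a ∈ Set.range ι} := Equiv.ofInjective ι hι
  have hcyc : (swap (2 : Fin 5) 3 * swap 3 4).cycleType = {3} := by
    have e1 : (swap (2 : Fin 5) 3 * swap 3 4) = swap 3 2 * swap 3 4 := by rw [swap_comm]
    rw [e1]
    exact (isThreeCycle_swap_mul_swap_same (by decide) (by decide) (by decide)).cycleType
  have hτ' : τ.cycleType = ((swap (2 : Fin 5) 3 * swap 3 4).extendDomain e).cycleType := by
    rw [cycleType_extendDomain, hτ, hcyc]
  obtain ⟨g, hg⟩ := PEAux.exists_conj τ _ hτ'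
  refine ⟨g, ?_⟩
  rw [hg]
  refine PEAux.good_lift hRP hRNS ι hι 3 Nat.prime_three _ _ σ _ ?_ ?_ hC5
  · have key : ∀ b : Fin 5, (swap (0 : Fin 5) 1 * swap 1 2 : Perm (Fin 5)) b = ![1, 2, 0, 3, 4] b := by decide
    intro b
    rw [key]
    fin_cases b
    · show σ (ι 0) = ι 1
      rw [i0, i1]
    · show σ (ι 1) = ι 2
      rw [i1, i2]
    · show σ (ι 2) = ι 0
      rw [i2, i0, hy3]
    · show σ (ι 3) = ι 3
      rw [i3, hv1]
    · show σ (ι 4) = ι 4
      rw [i4, hv1']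
  · intro b
    exact Perm.extendDomain_apply_image _ e b

end Cfsg.Agent.Lib.Helper84.PECASE2B
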