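import Mathlib
import Cfsg.Agent.Lib.Helper56.PEStmt
import Cfsg.Agent.Lib.Helper84.PEAux

/-!
# S2276 piece CASE3 (helper84): the first element has a longer cycle
-/

set_option autoImplicit false

namespace Cfsg.Agent.Lib.Helper84.PECASE3

open Equiv Equiv.Perm
open Cfsg.Agent.Lib.Helper56

theorem main (hOrb : PEStmt.Orb) (hGreedy : PEStmt.Greedy) (hCore3 : PEStmt.Core3)
    (hRP : PEStmt.RP) (hRNS : PEStmt.RNS) : PEStmt.Case3 := by
  intro α _ _ p hp hp2 σ τ x a hcard hτ1 hτ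
  have hppos : 0 < p ^ (a + 1) := pow_pos hp.pos _
  have hx : σ x ≠ x := by
    intro h
    have h1 : σ.cycleOf x = 1 := (cycleOf_eq_one_iff σ).2 h
    rw [h1, support_one, Finset.card_empty] at hcard
    omega
  obtain ⟨c, hc, hcyc, hsupp⟩ := hOrb σ x hx
  have hcardβ : Fintype.card {y // y ∈ (σ.cycleOf x).support} = p ^ (a + 1) := by
    rw [Fintype.card_coe]; exact hcard
  have hμ0 : τ.cycleType ≠ 0 := by rwa [Ne, cycleType_eq_zero]
  obtain ⟨μ₁, hle, hμ₁0, hμ₁sum, hrest⟩ : ∃ μ₁ : Multiset ℕ, μ₁ ≤ τ.cycleType ∧ μ₁ ≠ 0 ∧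
      μ₁.sum ≤ p ^ (a + 1) ∧ (τ.cycleType - μ₁).sum + p ^ (a + 1) ≤ Fintype.card α := by
    by_cases hs : τ.cycleType.sum ≤ p ^ (a + 1)
    · refine ⟨τ.cycleType, le_rfl, hμ0, hs, ?_⟩
      rw [tsub_self, Multiset.sum_zero, zero_add, ← hcard]
      exact Finset.card_le_univ _
    · obtain ⟨m₁, hm₁le, hm₁sum⟩ := hGreedy p hp (a + 1) τ.cycleType
        (fun q hq => by
          obtain ⟨i, _, hi, rfl⟩ := hτ q hq
          exact ⟨i, by omega, rfl⟩) (by omega)
      refine ⟨m₁, hm₁le, ?_, hm₁sum.le, ?_⟩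
      · rintro rfl
        rw [Multiset.sum_zero] at hm₁sum
        omega
      · have h1 : (τ.cycleType - m₁).sum + m₁.sum = τ.cycleType.sum := by
          rw [← Multiset.sum_add, tsub_add_cancel_of_le hm₁le]
        have h2 := sum_cycleType_le τ
        omega
  obtain ⟨t, ht, hgood⟩ := hCore3 p hp hp2 c hcyc hsupp a hcardβ μ₁ hμ₁0
    (fun q hq => hτ q (Multiset.mem_of_le hle hq)) (by rw [hcardβ]; exact hμ₁sum)
  obtain ⟨ρ, hρ, hρfix⟩ := PEAux.exists_off (σ.cycleOf x).support (τ.cycleType - μ₁)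
    (fun q hq => two_le_of_mem_cycleType (Multiset.mem_of_le tsub_le_self hq))
    (by rw [hcard]; exact hrest)
  have hdisj : Perm.Disjoint (ofSubtype t) ρ := by
    intro y
    by_cases hy : y ∈ (σ.cycleOf x).support
    · right; exact hρfix y hy
    · left; exact ofSubtype_apply_of_not_mem _ hy
  have hτ' : τ.cycleType = (ofSubtype t * ρ).cycleType := by
    rw [hdisj.cycleType_mul, cycleType_ofSubtype, ht, hρ, add_tsub_cancel_of_le hle]
  obtain ⟨g, hg⟩ := PEAux.exists_conj τ _ hτ'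
  refine ⟨g, ?_⟩
  rw [hg]
  refine PEAux.good_lift hRP hRNS Subtype.val Subtype.val_injective p hp c t σ _
    (fun b => hc b) (fun b => ?_) hgood
  rw [Perm.mul_apply, hρfix b.1 b.2, ofSubtype_apply_coe]

end Cfsg.Agent.Lib.Helper84.PECASE3
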