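import Mathlib
import Cfsg.Agent.Lib.Helper56.PEStmt

/-!
# S2276 piece CORE3 (helper84): dispatcher over `K2`, `K3`, `K45`, `K5F`, `K59`
-/

set_option autoImplicit false

namespace Cfsg.Agent.Lib.Helper84.PECORE3

open Equiv Equiv.Perm
open Cfsg.Agent.Lib.Helper56

theorem main (hK2 : PEStmt.K2) (hK3 : PEStmt.K3) (hK45 : PEStmt.K45) (hK5F : PEStmt.K5F)
    (hK59 : PEStmt.K59) : PEStmt.Core3 := by
  intro β _ _ p hp hp2 c hcyc hsupp a hcard μ₁ hμ0 hμ hsum
  have hp3 : 3 ≤ p := by have := hp.two_le; omega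
  obtain ⟨S, hSmem, hSmax⟩ : ∃ S ∈ μ₁, ∀ q ∈ μ₁, q ≤ S := by
    obtain ⟨S, hS, hmax⟩ := Finset.exists_max_image μ₁.toFinset id
      (by rw [Multiset.toFinset_nonempty]; exact hμ0)
    exact ⟨S, Multiset.mem_toFinset.1 hS, fun q hq => hmax q (Multiset.mem_toFinset.2 hq)⟩
  obtain ⟨i, hi1, hia, rfl⟩ := hμ S hSmem
  by_cases hS5 : 5 ≤ p ^ i
  · have hpS : p ∣ p ^ i := dvd_pow_self p (by omega)
    have hSdvd : p ^ i ∣ Fintype.card β := by rw [hcard]; exact pow_dvd_pow p (by omega)
    obtain ⟨μ₂, hμ₂⟩ := Multiset.exists_cons_of_mem hSmem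
    by_cases h0 : μ₂ = 0
    · subst h0
      have hlt : p ^ i < Fintype.card β := by
        rw [hcard]; exact Nat.pow_lt_pow_right hp.one_lt (by omega)
      obtain ⟨t, ht, hg⟩ := hK2 p hp c hcyc hsupp (p ^ i) hS5 hpS hSdvd hlt
      exact ⟨t, by rw [ht, hμ₂]; rfl, hg⟩
    · obtain ⟨q, hq⟩ := Multiset.exists_mem_of_ne_zero h0
      obtain ⟨μ', hμ'⟩ := Multiset.exists_cons_of_mem hq
      have hqmem : q ∈ μ₁ := by rw [hμ₂]; exact Multiset.mem_cons_of_mem hq
      obtain ⟨j, hj1, hja, rfl⟩ := hμ q hqmem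
      have hjle : j ≤ i := (Nat.pow_le_pow_iff_right hp.one_lt).1 (hSmax _ hqmem)
      have h3S : 3 * p ^ i ≤ Fintype.card β := by
        rw [hcard, pow_succ]
        calc 3 * p ^ i ≤ p * p ^ a := Nat.mul_le_mul hp3 (Nat.pow_le_pow_right hp.pos hia)
          _ = p ^ a * p := mul_comm _ _
      have h3q : 3 ≤ p ^ j := le_trans hp3 (Nat.le_self_pow (by omega) p)
      have hqS : p ^ j ∣ p ^ i := pow_dvd_pow p hjle
      have hμ'2 : ∀ b ∈ μ', 2 ≤ b := by
        intro b hb
        have hbmem : b ∈ μ₁ := by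
          rw [hμ₂, hμ']; exact Multiset.mem_cons_of_mem (Multiset.mem_cons_of_mem hb)
        obtain ⟨l, hl1, _, rfl⟩ := hμ b hbmem
        exact le_trans hp.two_le (Nat.le_self_pow (by omega) p)
      have hsum' : p ^ i + p ^ j + μ'.sum ≤ Fintype.card β := by
        have h1 : μ₁.sum = p ^ i + p ^ j + μ'.sum := by
          rw [hμ₂, hμ', Multiset.sum_cons, Multiset.sum_cons]; ring
        omega
      obtain ⟨t, ht, hg⟩ := hK3 p hp c hcyc hsupp (p ^ i) (p ^ j) μ' hS5 hpS hSdvd h3S h3q hqS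
        hμ'2 hsum'
      exact ⟨t, by rw [ht, hμ₂, hμ'], hg⟩
  · have hp3' : p = 3 := by
      have h1 : p ≤ p ^ i := Nat.le_self_pow (by omega) p
      have h2 : p < 5 := by omega
      have h4 : p ≠ 4 := by
        rintro rfl
        exact absurd hp (by norm_num)
      omega
    subst hp3'
    have hi : i = 1 := by
      by_contra hne
      have h1 : 3 ^ 2 ≤ 3 ^ i := Nat.pow_le_pow_right (by norm_num) (by omega)
      omega
    subst hi
    have hall : ∀ q ∈ μ₁, q = 3 := by
      intro q hq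
      obtain ⟨j, hj1, _, rfl⟩ := hμ q hq
      have hj : j ≤ 1 := (Nat.pow_le_pow_iff_right (by norm_num)).1 (hSmax _ hq)
      have hj' : j = 1 := by omega
      subst hj'
      norm_num
    have hrep : μ₁ = Multiset.replicate (Multiset.card μ₁) 3 :=
      Multiset.eq_replicate.2 ⟨rfl, hall⟩
    have hk1 : 1 ≤ Multiset.card μ₁ := Multiset.card_pos.2 hμ0
    generalize hk : Multiset.card μ₁ = k at hrep hk1
    have hsum3 : 3 * k ≤ Fintype.card β := by
      rw [hrep, Multiset.sum_replicate, smul_eq_mul] at hsum; omega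
    have h3dvd : 3 ∣ Fintype.card β := by rw [hcard]; exact dvd_pow_self 3 (by omega)
    have h9 : 9 ≤ Fintype.card β := by
      rw [hcard]
      calc 9 = 3 ^ 2 := by norm_num
        _ ≤ 3 ^ (a + 1) := Nat.pow_le_pow_right (by norm_num) (by omega)
    by_cases hk3 : 3 * k + 3 ≤ Fintype.card β
    · obtain ⟨j, rfl⟩ : ∃ j, k = j + 1 := ⟨k - 1, by omega⟩
      obtain ⟨t, ht, hg⟩ := hK45 c hcyc hsupp h3dvd h9 (Multiset.replicate j 3)
        (fun b hb => by rw [Multiset.eq_of_mem_replicate hb]; norm_num)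
        (by rw [Multiset.sum_replicate, smul_eq_mul]; omega)
      exact ⟨t, by rw [ht, hrep, Multiset.replicate_succ], hg⟩
    · have hk3' : 3 * k = Fintype.card β := by
        obtain ⟨d, hd⟩ := h3dvd
        omega
      by_cases h9' : Fintype.card β = 9
      · have hk3'' : k = 3 := by omega
        subst hk3''
        obtain ⟨t, ht, hg⟩ := hK59 c hcyc hsupp h9'
        exact ⟨t, by rw [ht, hrep]; rfl, hg⟩
      · have h27 : 27 ≤ Fintype.card β := by
          rw [hcard] at h9' ⊢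
          have ha2 : 2 ≤ a := by
            by_contra hlt
            have ha1 : a = 1 := by omega
            subst ha1
            norm_num at h9'
          calc 27 = 3 ^ 3 := by norm_num
            _ ≤ 3 ^ (a + 1) := Nat.pow_le_pow_right (by norm_num) (by omega)
        obtain ⟨j, rfl⟩ : ∃ j, k = j + 3 := ⟨k - 3, by omega⟩
        obtain ⟨t, ht, hg⟩ := hK5F c hcyc hsupp h3dvd h27 (Multiset.replicate j 3)
          (fun b hb => by rw [Multiset.eq_of_mem_replicate hb]; norm_num)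
          (by rw [Multiset.sum_replicate, smul_eq_mul]; omega)
        exact ⟨t, by rw [ht, hrep, Multiset.replicate_succ, Multiset.replicate_succ,
          Multiset.replicate_succ], hg⟩

end Cfsg.Agent.Lib.Helper84.PECORE3
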