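import Mathlib
import Cfsg.Agent.Lib.Helper56.PEStmt

/-!
# S2276 piece NS6 (helper84, second seat)
-/

set_option autoImplicit false
set_option maxRecDepth 100000

namespace Cfsg.Agent.Lib.Helper84.PENS6

open Equiv Equiv.Perm
open Cfsg.Agent.Lib.Helper56

/-- `(0 3 1)` on `Fin 6`. -/
def ga : Perm (Fin 6) := swap 0 3 * swap 3 1
/-- `(1 3 0)` on `Fin 6`. -/
def ga' : Perm (Fin 6) := swap 1 3 * swap 3 0
/-- `(1 3 0)(2 5 4)` on `Fin 6`. -/
def gb : Perm (Fin 6) := swap 1 3 * swap 3 0 * (swap 2 5 * swap 5 4)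
/-- first generator of (c). -/
def fc : Perm (Fin 6) := swap 0 1 * swap 2 3 * swap 1 2 * swap 3 4
/-- second generator of (c). -/
def gc : Perm (Fin 6) := swap 1 2 * swap 3 4 * swap 2 3 * swap 4 5

theorem main (hNSC : PEStmt.NSCert) : PEStmt.NS6 := by
  refine ⟨?_, ?_, ?_, ?_⟩
  · show ¬ Group.IsSolvable ↥(Subgroup.closure ({PEStmt.f6, ga} : Set (Perm (Fin 6))))
    have hf : PEStmt.f6 ∈ Subgroup.closure ({PEStmt.f6, ga} : Set (Perm (Fin 6))) :=
      Subgroup.subset_closure (by simp)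
    have hg : ga ∈ Subgroup.closure ({PEStmt.f6, ga} : Set (Perm (Fin 6))) :=
      Subgroup.subset_closure (by simp)
    exact hNSC _ PEStmt.f6 ga⁻¹ (ga * PEStmt.f6 * ga⁻¹) hf (Subgroup.inv_mem _ hg)
      (Subgroup.mul_mem _ (Subgroup.mul_mem _ hg hf) (Subgroup.inv_mem _ hg))
      (by decide) (by decide)
  · show ¬ Group.IsSolvable ↥(Subgroup.closure ({PEStmt.f6, ga'} : Set (Perm (Fin 6))))
    have hf : PEStmt.f6 ∈ Subgroup.closure ({PEStmt.f6, ga'} : Set (Perm (Fin 6))) :=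
      Subgroup.subset_closure (by simp)
    have hg : ga' ∈ Subgroup.closure ({PEStmt.f6, ga'} : Set (Perm (Fin 6))) :=
      Subgroup.subset_closure (by simp)
    exact hNSC _ PEStmt.f6 ga' (ga'⁻¹ * PEStmt.f6 * ga') hf hg
      (Subgroup.mul_mem _ (Subgroup.mul_mem _ (Subgroup.inv_mem _ hg) hf) hg)
      (by decide) (by decide)
  · show ¬ Group.IsSolvable ↥(Subgroup.closure ({PEStmt.f6, gb} : Set (Perm (Fin 6))))
    have hf : PEStmt.f6 ∈ Subgroup.closure ({PEStmt.f6, gb} : Set (Perm (Fin 6))) :=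
      Subgroup.subset_closure (by simp)
    have hg : gb ∈ Subgroup.closure ({PEStmt.f6, gb} : Set (Perm (Fin 6))) :=
      Subgroup.subset_closure (by simp)
    exact hNSC _ PEStmt.f6 (gb * PEStmt.f6⁻¹ * gb) gb hf
      (Subgroup.mul_mem _ (Subgroup.mul_mem _ hg (Subgroup.inv_mem _ hf)) hg) hg
      (by decide) (by decide)
  · show ¬ Group.IsSolvable ↥(Subgroup.closure ({fc, gc} : Set (Perm (Fin 6))))
    have hf : fc ∈ Subgroup.closure ({fc, gc} : Set (Perm (Fin 6))) :=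
      Subgroup.subset_closure (by simp)
    have hg : gc ∈ Subgroup.closure ({fc, gc} : Set (Perm (Fin 6))) :=
      Subgroup.subset_closure (by simp)
    exact hNSC _ fc gc (gc⁻¹ * gc⁻¹) hf hg
      (Subgroup.mul_mem _ (Subgroup.inv_mem _ hg) (Subgroup.inv_mem _ hg))
      (by decide) (by decide)

end Cfsg.Agent.Lib.Helper84.PENS6
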