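import Mathlib
import Cfsg.Agent.Lib.Helper18.ReeMultStmt

set_option autoImplicit false

/-! S2113 piece LCONJ (second seat): conjugation of the canonical lift `lft s₁ u v` by a lift
of `x t u₀ v₀`. -/

namespace Cfsg.Agent.Lib.Helper84.ReeMultLCONJ

open Cfsg.Agent.Lib.Helper18.ReeMultStmt

universe u v w

theorem main (hLMAP : LMAP.{u, v, w}) (hLMUL : LMUL.{u, v, w}) (hLCONJH : LCONJH.{u, v, w}) :
    LCONJ.{u, v, w} := by
  intro Γ _ G _ K _ _ m φ x e σ E s₁ hs0 hs3 hZC hAAB γ t u₀ v₀ hγ u v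
  obtain ⟨L, hL⟩ : ∃ L : K → K → Γ, ∀ u v, L u v = lft σ E.surj φ x e s₁ u v :=
    ⟨_, fun _ _ => rfl⟩
  have hσL : ∀ u v, σ (L u v) = x 0 u v := fun u v => by
    rw [hL]; exact hLMAP Γ G K m φ x e σ E s₁ hs0 hs3 u v
  have hLmul : ∀ u v u' v', L u v * L u' v' = L (u + u') (v + v') := by
    intro u v u' v'
    rw [hL, hL, hL]
    exact hLMUL Γ G K m φ x e σ E s₁ hs0 hs3 hAAB u v u' v'
  have hLH : ∀ (η : Γ) (s : K), s ≠ 0 → σ η = e s →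
      ∀ u v, η * L u v * η⁻¹ = L (φ s ^ 3 / s * u) (s * v) := by
    intro η s hs hη u v
    rw [hL, hL]
    exact hLCONJH Γ G K m φ x e σ E s₁ hs0 η s hs hη u v
  rw [← hL, ← hL]
  have hcen : ∀ z, σ z = 1 → ∀ g, z * g = g * z := fun z hz g =>
    (Subgroup.mem_center_iff.mp (E.cen (MonoidHom.mem_ker.mpr hz)) g).symm
  have hComm : ∀ (g h : Γ) (a b a' b' : K), σ g = x 0 a b → σ h = x 0 a' b' →
      g * h = h * g := by
    intro g h a b a' b' hg hh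
    apply comm_of_cm σ E.surj E.cen
    rw [hg, hh]
    exact hAAB a b a' b'
  have hZComm : ∀ (g h : Γ) (b t u v : K), σ g = x 0 0 b → σ h = x t u v →
      g * h = h * g := by
    intro g h b t u v hg hh
    apply comm_of_cm σ E.surj E.cen
    rw [hg, hh]
    exact hZC b t u v
  -- the group law
  have hxA : ∀ t u₀ v₀ a b, x t u₀ v₀ * x 0 a b = x t (u₀ + a) (v₀ + b) := by
    intro t u₀ v₀ a b
    rw [E.par.x_mul, map_zero]
    have h1 : t + 0 = t := add_zero t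
    have h2 : u₀ + a - t * 0 ^ 3 = u₀ + a := by ring
    have h3 : v₀ + b - u₀ * 0 - t ^ 2 * 0 ^ 3 + t * 0 * 0 ^ 3 = v₀ + b := by ring
    rw [h1, h2, h3]
  have hxA' : ∀ a b t u₀ v₀, x 0 a b * x t u₀ v₀ = x t (a + u₀) (b + v₀ - a * t) := by
    intro a b t u₀ v₀
    rw [E.par.x_mul]
    have h1 : 0 + t = t := zero_add t
    have h2 : a + u₀ - 0 * φ t ^ 3 = a + u₀ := by ring
    have h3 : b + v₀ - a * t - 0 ^ 2 * φ t ^ 3 + 0 * t * φ t ^ 3 = b + v₀ - a * t := by ring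
    rw [h1, h2, h3]
  have hx0form : ∀ t u₀ v₀ t' u₀' v₀', t + t' = 0 →
      ∃ a b, x t u₀ v₀ * x t' u₀' v₀' = x 0 a b := by
    intro t u₀ v₀ t' u₀' v₀' h
    rw [E.par.x_mul, h]
    exact ⟨_, _, rfl⟩
  have hxprod : ∀ t u₀ v₀ t' u₀' v₀', ∃ a b, x t u₀ v₀ * x t' u₀' v₀' = x (t + t') a b := by
    intro t u₀ v₀ t' u₀' v₀'
    exact ⟨_, _, E.par.x_mul t u₀ v₀ t' u₀' v₀'⟩
  -- the defect
  obtain ⟨D, hD⟩ : ∃ D : Γ → K → K → Γ,
      ∀ γ t u, D γ t u = γ * L u 0 * γ⁻¹ * (L u (u * t))⁻¹ := ⟨_, fun _ _ _ => rfl⟩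
  have hDeq : ∀ γ t u, γ * L u 0 * γ⁻¹ = D γ t u * L u (u * t) := by
    intro γ t u
    rw [hD, inv_mul_cancel_right]
  have hDσ : ∀ γ t u₀ v₀ u, σ γ = x t u₀ v₀ → σ (D γ t u) = 1 := by
    intro γ t u₀ v₀ u hγ
    rw [hD]
    simp only [map_mul, map_inv]
    rw [hγ, hσL, hσL]
    have h1 : x t u₀ v₀ * x 0 u 0 = x 0 u (u * t) * x t u₀ v₀ := by
      rw [hxA, hxA']
      have h2 : u₀ + u = u + u₀ := add_comm _ _
      have h3 : v₀ + 0 = u * t + v₀ - u * t := by ring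
      rw [h2, h3]
    rw [h1]
    group
  have hcc : ∀ z g l : Γ, σ z = 1 → g * (z * l) * g⁻¹ = z * (g * l * g⁻¹) := by
    intro z g l hz
    have h := hcen z hz g
    calc g * (z * l) * g⁻¹ = (g * z) * l * g⁻¹ := by group
      _ = (z * g) * l * g⁻¹ := by rw [h]
      _ = z * (g * l * g⁻¹) := by group
  have hZconj : ∀ γ t u₀ v₀ b, σ γ = x t u₀ v₀ → γ * L 0 b * γ⁻¹ = L 0 b := by
    intro γ t u₀ v₀ b hγ
    have h := hZComm (L 0 b) γ b t u₀ v₀ (hσL 0 b) hγ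
    rw [← h, mul_inv_cancel_right]
  have hconj : ∀ γ t u₀ v₀ u v, σ γ = x t u₀ v₀ →
      γ * L u v * γ⁻¹ = D γ t u * L u (v + u * t) := by
    intro γ t u₀ v₀ u v hγ
    have h1 : L u v = L u 0 * L 0 v := by rw [hLmul, add_zero, zero_add]
    have h2 : γ * (L u 0 * L 0 v) * γ⁻¹ = (γ * L u 0 * γ⁻¹) * (γ * L 0 v * γ⁻¹) := by group
    have h3 : L (u + 0) (u * t + v) = L u (v + u * t) := by rw [add_zero, add_comm]
    rw [h1, h2, hZconj γ t u₀ v₀ v hγ, hDeq γ t u, mul_assoc, hLmul, h3]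
  have hD0 : ∀ δ a b u, σ δ = x 0 a b → D δ 0 u = 1 := by
    intro δ a b u hδ
    have hc := hComm δ (L u 0) a b u 0 hδ (hσL u 0)
    rw [hD, hc, mul_inv_cancel_right, mul_zero, mul_inv_cancel]
  have hDadd : ∀ γ γ' t t' u₀ v₀ u₀' v₀' u, σ γ = x t u₀ v₀ → σ γ' = x t' u₀' v₀' →
      D (γ * γ') (t + t') u = D γ' t' u * D γ t u := by
    intro γ γ' t t' u₀ v₀ u₀' v₀' u hγ hγ'
    have e1 := hDeq (γ * γ') (t + t') u
    have e2 : γ * γ' * L u 0 * (γ * γ')⁻¹ = γ * (γ' * L u 0 * γ'⁻¹) * γ⁻¹ := by group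
    rw [e2, hDeq γ' t' u, hcc _ _ _ (hDσ γ' t' u₀' v₀' u hγ'),
      hconj γ t u₀ v₀ u (u * t') hγ] at e1
    have e4 : L u (u * t' + u * t) = L u (u * (t + t')) := by
      have : u * t' + u * t = u * (t + t') := by ring
      rw [this]
    rw [e4, ← mul_assoc] at e1
    exact (mul_right_cancel e1).symm
  have hm1 : (-1 : K) ≠ 0 := neg_ne_zero.mpr one_ne_zero
  have hφ : φ (-1) = -1 := by rw [map_neg, map_one]
  have hχ : (-1 : K) ^ 2 / (-1) ^ 3 = -1 := by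
    have h : ((-1 : K)) ^ 3 = -1 := by ring
    rw [h, neg_one_sq, div_neg, div_one]
  have hψ : (-1 : K) ^ 3 / (-1) = 1 := by
    have h : ((-1 : K)) ^ 3 = -1 := by ring
    rw [h, div_self hm1]
  have hηG : ∀ η γ t u₀ v₀, σ η = e (-1) → σ γ = x t u₀ v₀ →
      σ (η * γ * η⁻¹) = x (-t) u₀ (-v₀) := by
    intro η γ t u₀ v₀ hη hγ
    rw [map_mul, map_mul, map_inv, hη, hγ, E.par.e_x (-1) hm1, mul_inv_cancel_right, hφ, hχ, hψ,
      neg_one_mul, one_mul, neg_one_mul]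
  have hDeta : ∀ η γ t u₀ v₀ u, σ η = e (-1) → σ γ = x t u₀ v₀ →
      D (η * γ * η⁻¹) (-t) u = D γ t u := by
    intro η γ t u₀ v₀ u hη hγ
    have e1 := hDeq γ t u
    have e2 : η * (γ * L u 0 * γ⁻¹) * η⁻¹ = η * (D γ t u * L u (u * t)) * η⁻¹ := by rw [e1]
    have e3 : η * (γ * L u 0 * γ⁻¹) * η⁻¹ =
        (η * γ * η⁻¹) * (η * L u 0 * η⁻¹) * (η * γ * η⁻¹)⁻¹ := by group
    have e4 : η * L u 0 * η⁻¹ = L u 0 := by
      rw [hLH η (-1) hm1 hη, hφ, hψ, one_mul, mul_zero]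
    have e5 : η * L u (u * t) * η⁻¹ = L u (u * (-t)) := by
      rw [hLH η (-1) hm1 hη, hφ, hψ, one_mul]
      have : -1 * (u * t) = u * (-t) := by ring
      rw [this]
    rw [e3, e4, hDeq (η * γ * η⁻¹) (-t) u, hcc _ _ _ (hDσ γ t u₀ v₀ u hγ), e5] at e2
    exact mul_right_cancel e2
  -- conclusion
  rw [hconj γ t u₀ v₀ u v hγ]
  suffices h : D γ t u = 1 by rw [h, one_mul]
  obtain ⟨η, hη⟩ := E.surj (e (-1))
  have hγ2 := hηG η γ t u₀ v₀ hη hγ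
  have hsq : D γ t u * D γ t u = 1 := by
    have h1 := hDadd γ (η * γ * η⁻¹) t (-t) u₀ v₀ u₀ (-v₀) u hγ hγ2
    rw [hDeta η γ t u₀ v₀ u hη hγ, add_neg_cancel] at h1
    rw [← h1]
    obtain ⟨a, b, hab⟩ := hx0form t u₀ v₀ (-t) u₀ (-v₀) (add_neg_cancel t)
    exact hD0 _ a b u (by rw [map_mul, hγ, hγ2, hab])
  have hcube : D γ t u * D γ t u * D γ t u = 1 := by
    have h2 := hDadd γ γ t t u₀ v₀ u₀ v₀ u hγ hγ
    obtain ⟨A, B, hAB⟩ := hxprod t u₀ v₀ t u₀ v₀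
    have hγγ : σ (γ * γ) = x (t + t) A B := by rw [map_mul, hγ, hAB]
    have h3 := hDadd γ (γ * γ) t (t + t) u₀ v₀ A B u hγ hγγ
    have h3t : t + (t + t) = 0 := by linear_combination t * E.par.char3
    rw [h2, h3t] at h3
    rw [← h3]
    obtain ⟨a, b, hab⟩ := hx0form t u₀ v₀ (t + t) A B h3t
    exact hD0 _ a b u (by rw [map_mul, hγ, hγγ, hab])
  rw [hsq, one_mul] at hcube
  exact hcube

end Cfsg.Agent.Lib.Helper84.ReeMultLCONJ
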