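import Mathlib
import Cfsg.Agent.Lib.Helper18.ReeMultStmt

set_option autoImplicit false

/-! S2113 piece P2FORM (second seat): an alternating bimultiplicative map on an elementary
abelian group of order 8, invariant under an element of order 7 acting without fixed points,
is trivial. -/

namespace Cfsg.Agent.Lib.Helper84.ReeMultP2FORM

open Cfsg.Agent.Lib.Helper18.ReeMultStmt

universe u w

lemma fix_pow {G : Type u} [Group G] (g : MulAut G) (a : G) (h : g a = a) (m : ℕ) :
    (g ^ m) a = a := by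
  induction m with
  | zero => rw [pow_zero, MulAut.one_apply]
  | succ k ih => rw [pow_succ, MulAut.mul_apply, h, ih]

lemma fix_of_pow {G : Type u} [Group G] (c : MulAut G) (hc : c ^ 7 = 1) (a : G) (i : ℕ)
    (hi0 : 0 < i) (hi7 : i < 7) (h : (c ^ i) a = a) : c a = a := by
  have key : ∀ m q : ℕ, i * m = 7 * q + 1 → c a = a := by
    intro m q hm
    have h1 := fix_pow (c ^ i) a h m
    rw [← pow_mul, hm, pow_add, pow_mul, hc, one_pow, one_mul, pow_one] at h1
    exact h1
  interval_cases i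
  · exact key 1 0 rfl
  · exact key 4 1 rfl
  · exact key 5 2 rfl
  · exact key 2 1 rfl
  · exact key 3 2 rfl
  · exact key 6 5 rfl

lemma one_of_l {M : Type w} [Group M] {a b : M} (h : a = b * a) : b = 1 := by
  have h' : b * a = 1 * a := by rw [one_mul]; exact h.symm
  exact mul_right_cancel h'

lemma one_of_r {M : Type w} [Group M] {a b : M} (h : a = a * b) : b = 1 := by
  have h' : a * b = a * 1 := by rw [mul_one]; exact h.symm
  exact mul_left_cancel h'

/-- the algebra: an even function on `ℤ/7` with values of square `1`, `F 0 = 1`, satisfying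
`F (k - j) = F j * F (j - 1)`, is trivial. -/
lemma alg {M : Type w} [CommGroup M] (F : ℕ → M) (k : ℕ) (hk2 : 2 ≤ k) (hk6 : k ≤ 6)
    (hF0 : F 0 = 1) (hFsq : ∀ d, F d * F d = 1) (hFsym : ∀ d d', d + d' = 7 → F d' = F d)
    (hR : ∀ j d d', (j + d = k ∨ k + d = j) → d' + 1 = j → F d = F j * F d') :
    F 1 = 1 ∧ F 2 = 1 ∧ F 3 = 1 := by
  have h43 : F 4 = F 3 := hFsym 3 4 rfl
  have h52 : F 5 = F 2 := hFsym 2 5 rfl
  revert hR
  interval_cases k
  · intro hR
    have r2 : F 0 = F 2 * F 1 := hR 2 0 1 (Or.inl rfl) rfl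
    have r3 : F 1 = F 3 * F 2 := hR 3 1 2 (Or.inr rfl) rfl
    have r4 : F 2 = F 4 * F 3 := hR 4 2 3 (Or.inr rfl) rfl
    have hb : F 2 = 1 := by rw [r4, h43, hFsq]
    have ha : F 1 = 1 := by
      rw [hF0, hb, one_mul] at r2
      exact r2.symm
    have hc : F 3 = 1 := by
      rw [ha, hb, mul_one] at r3
      exact r3.symm
    exact ⟨ha, hb, hc⟩
  · intro hR
    have r1 : F 2 = F 1 * F 0 := hR 1 2 0 (Or.inl rfl) rfl
    have r2 : F 1 = F 2 * F 1 := hR 2 1 1 (Or.inl rfl) rfl
    have r3 : F 0 = F 3 * F 2 := hR 3 0 2 (Or.inl rfl) rfl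
    have hb : F 2 = 1 := one_of_l r2
    have ha : F 1 = 1 := by
      rw [hb, hF0, mul_one] at r1
      exact r1.symm
    have hc : F 3 = 1 := by
      rw [hF0, hb, mul_one] at r3
      exact r3.symm
    exact ⟨ha, hb, hc⟩
  · intro hR
    have r1 : F 3 = F 1 * F 0 := hR 1 3 0 (Or.inl rfl) rfl
    have r2 : F 2 = F 2 * F 1 := hR 2 2 1 (Or.inl rfl) rfl
    have r3 : F 1 = F 3 * F 2 := hR 3 1 2 (Or.inl rfl) rfl
    have ha : F 1 = 1 := one_of_r r2
    have hc : F 3 = 1 := by
      rw [ha, hF0, mul_one] at r1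
      exact r1
    have hb : F 2 = 1 := by
      rw [ha, hc, one_mul] at r3
      exact r3.symm
    exact ⟨ha, hb, hc⟩
  · intro hR
    have r1 : F 4 = F 1 * F 0 := hR 1 4 0 (Or.inl rfl) rfl
    have r2 : F 3 = F 2 * F 1 := hR 2 3 1 (Or.inl rfl) rfl
    have r3 : F 2 = F 3 * F 2 := hR 3 2 2 (Or.inl rfl) rfl
    have hc : F 3 = 1 := one_of_l r3
    have ha : F 1 = 1 := by
      rw [h43, hc, hF0, mul_one] at r1
      exact r1.symm
    have hb : F 2 = 1 := by
      rw [hc, ha, mul_one] at r2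
      exact r2.symm
    exact ⟨ha, hb, hc⟩
  · intro hR
    have r1 : F 5 = F 1 * F 0 := hR 1 5 0 (Or.inl rfl) rfl
    have r2 : F 4 = F 2 * F 1 := hR 2 4 1 (Or.inl rfl) rfl
    have r3 : F 3 = F 3 * F 2 := hR 3 3 2 (Or.inl rfl) rfl
    have hb : F 2 = 1 := one_of_r r3
    have ha : F 1 = 1 := by
      rw [h52, hb, hF0, mul_one] at r1
      exact r1.symm
    have hc : F 3 = 1 := by
      rw [h43, hb, ha, mul_one] at r2
      exact r2
    exact ⟨ha, hb, hc⟩

theorem main : P2FORM.{u, w} := by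
  intro G _ S M _ B n hcard hexp hn7 hnS hfix hBl hBr hBalt hBinv
  have hinvS : ∀ a ∈ S, a⁻¹ = a := fun a ha => inv_eq_of_mul_eq_one_right (hexp a ha)
  have hB1l : ∀ y ∈ S, B 1 y = 1 := by
    intro y hy
    have h := hBl 1 S.one_mem 1 S.one_mem y hy
    rw [mul_one] at h
    exact one_of_r h
  have hB1r : ∀ x ∈ S, B x 1 = 1 := by
    intro x hx
    have h := hBr x hx 1 S.one_mem 1 S.one_mem
    rw [mul_one] at h
    exact one_of_r h
  have hBsq : ∀ x ∈ S, ∀ y ∈ S, B x y * B x y = 1 := by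
    intro x hx y hy
    rw [← hBl x hx x hx y hy, hexp x hx, hB1l y hy]
  have hBsym : ∀ x ∈ S, ∀ y ∈ S, B y x = B x y := by
    intro x hx y hy
    have h := hBalt (x * y) (S.mul_mem hx hy)
    rw [hBl x hx y hy _ (S.mul_mem hx hy), hBr x hx x hx y hy, hBr y hy x hx y hy,
      hBalt x hx, hBalt y hy, one_mul, mul_one] at h
    have h2 := hBsq x hx y hy
    exact mul_left_cancel (h.trans h2.symm)
  -- the conjugation automorphism
  obtain ⟨c, hc, hc7⟩ : ∃ c : MulAut G, (∀ g, c g = n * g * n⁻¹) ∧ c ^ 7 = 1 :=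
    ⟨MulAut.conj n, fun g => MulAut.conj_apply n g, by rw [← map_pow, hn7, map_one]⟩
  have hcS : ∀ a ∈ S, c a ∈ S := fun a ha => by rw [hc]; exact hnS a ha
  have hcpS : ∀ (i : ℕ), ∀ a ∈ S, (c ^ i) a ∈ S := by
    intro i
    induction i with
    | zero => intro a ha; rw [pow_zero, MulAut.one_apply]; exact ha
    | succ k ih => intro a ha; rw [pow_succ, MulAut.mul_apply]; exact ih _ (hcS a ha)
  have hcfix : ∀ a ∈ S, c a = a → a = 1 := by
    intro a ha h
    apply hfix a ha
    rw [hc] at h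
    exact mul_inv_eq_iff_eq_mul.mp h
  have hBc : ∀ (i : ℕ), ∀ a ∈ S, ∀ b ∈ S, B ((c ^ i) a) ((c ^ i) b) = B a b := by
    intro i
    induction i with
    | zero => intro a _ b _; rw [pow_zero, MulAut.one_apply, MulAut.one_apply]
    | succ k ih =>
      intro a ha b hb
      rw [pow_succ, MulAut.mul_apply, MulAut.mul_apply, ih _ (hcS a ha) _ (hcS b hb), hc, hc]
      exact hBinv a ha b hb
  intro x hx y hy
  by_cases hx1 : x = 1
  · rw [hx1]; exact hB1l y hy
  -- the orbit of `x`
  obtain ⟨e, he⟩ : ∃ e : ℕ → G, ∀ j, e j = (c ^ j) x := ⟨fun j => (c ^ j) x, fun _ => rfl⟩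
  have heS : ∀ j, e j ∈ S := fun j => by rw [he]; exact hcpS j x hx
  have he0 : e 0 = x := by rw [he, pow_zero, MulAut.one_apply]
  have he_add : ∀ i j, e (i + j) = (c ^ i) (e j) := by
    intro i j
    rw [he, he, pow_add, MulAut.mul_apply]
  have he7 : ∀ j, e (j + 7) = e j := by
    intro j
    rw [he, he, pow_add, hc7, mul_one]
  have he_ne1 : ∀ j, e j ≠ 1 := by
    intro j h
    apply hx1
    rw [he] at h
    have h' : (c ^ j) x = (c ^ j) 1 := by rw [h, map_one]
    exact (c ^ j).injective h'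
  have he_inj : ∀ i j, i < j → j < 7 → e i ≠ e j := by
    intro i j hij hj h
    apply hx1
    apply hcfix x hx
    apply fix_of_pow c hc7 x (j - i) (by omega) (by omega)
    have h2 : e j = (c ^ i) (e (j - i)) := by
      rw [← he_add]
      congr 1
      omega
    rw [h2, he i, he (j - i)] at h
    exact ((c ^ i).injective h).symm
  -- the orbit together with `1` is all of `S`
  have hfin : Finite ↥S := Nat.finite_of_card_ne_zero (by rw [hcard]; norm_num)
  obtain ⟨f, hf0, hf1⟩ : ∃ f : Option (Fin 7) → ↥S, (f none : G) = 1 ∧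
      ∀ j : Fin 7, (f (some j) : G) = e j.val :=
    ⟨fun o => o.elim 1 (fun j => ⟨e j.val, heS j.val⟩), rfl, fun _ => rfl⟩
  have hf_inj : Function.Injective f := by
    intro a b hab
    have hab' : (f a : G) = f b := congrArg Subtype.val hab
    rcases a with _ | i <;> rcases b with _ | j
    · rfl
    · rw [hf0, hf1] at hab'
      exact absurd hab'.symm (he_ne1 _)
    · rw [hf0, hf1] at hab'
      exact absurd hab' (he_ne1 _)
    · rw [hf1, hf1] at hab'
      rcases lt_trichotomy i.val j.val with hlt | heq | hgt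
      · exact absurd hab' (he_inj _ _ hlt j.isLt)
      · rw [Fin.ext heq]
      · exact absurd hab'.symm (he_inj _ _ hgt i.isLt)
  have hf_surj : Function.Surjective f := by
    have hb := (Nat.bijective_iff_injective_and_card f).mpr ⟨hf_inj, by rw [hcard]; simp⟩
    exact hb.2
  -- `e 0 * e 1 = e k`
  obtain ⟨o, ho⟩ := hf_surj ⟨e 0 * e 1, S.mul_mem (heS 0) (heS 1)⟩
  have ho' : (f o : G) = e 0 * e 1 := congrArg Subtype.val ho
  have hk : ∃ k : ℕ, 2 ≤ k ∧ k ≤ 6 ∧ e k = e 0 * e 1 := by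
    rcases o with _ | k
    · exfalso
      rw [hf0] at ho'
      have h2 : e 0 * e 1 = e 1 * e 1 := ho'.symm.trans (hexp (e 1) (heS 1)).symm
      exact he_inj 0 1 (by norm_num) (by norm_num) (mul_right_cancel h2)
    · rw [hf1] at ho'
      refine ⟨k.val, ?_, by have := k.isLt; omega, ho'⟩
      by_contra hlt
      have hk01 : k.val = 0 ∨ k.val = 1 := by omega
      rcases hk01 with h0 | h1
      · rw [h0] at ho'
        exact he_ne1 1 (one_of_r ho')
      · rw [h1] at ho'
        exact he_ne1 0 (one_of_l ho')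
  obtain ⟨k, hk2, hk6, hk⟩ := hk
  -- the values `F d = B (e 0) (e d)`
  have hD : ∀ i d, B (e i) (e (i + d)) = B (e 0) (e d) := by
    intro i d
    have h1 : e i = (c ^ i) (e 0) := by rw [← he_add, add_zero]
    rw [he_add i d, h1]
    exact hBc i _ (heS 0) _ (heS d)
  have hF := alg (fun d => B (e 0) (e d)) k hk2 hk6 (hBalt _ (heS 0))
    (fun d => hBsq _ (heS 0) _ (heS d))
    (by
      intro d d' hdd
      show B (e 0) (e d') = B (e 0) (e d)
      have h1 : B (e d) (e (d + d')) = B (e 0) (e d') := hD d d'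
      have h2 : e (d + d') = e 0 := by rw [hdd]; exact he7 0
      rw [← h1, h2]
      exact hBsym _ (heS 0) _ (heS d))
    (by
      intro j d d' hjd hd'
      show B (e 0) (e d) = B (e 0) (e j) * B (e 0) (e d')
      have h1 : B (e j) (e k) = B (e j) (e 0) * B (e j) (e 1) := by
        rw [hk]
        exact hBr _ (heS j) _ (heS 0) _ (heS 1)
      have h2 : B (e j) (e 0) = B (e 0) (e j) := hBsym _ (heS 0) _ (heS j)
      have h3 : B (e j) (e 1) = B (e 0) (e d') := by
        rw [hBsym _ (heS 1) _ (heS j), ← hd', add_comm d' 1]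
        exact hD 1 d'
      have h4 : B (e j) (e k) = B (e 0) (e d) := by
        rcases hjd with h | h
        · rw [← h]
          exact hD j d
        · rw [hBsym _ (heS k) _ (heS j), ← h]
          exact hD k d
      rw [← h4, h1, h2, h3])
  obtain ⟨hF1, hF2, hF3⟩ := hF
  have hF1' : B (e 0) (e 1) = 1 := hF1
  have hF2' : B (e 0) (e 2) = 1 := hF2
  have hF3' : B (e 0) (e 3) = 1 := hF3
  have hFsym' : ∀ d d', d + d' = 7 → B (e 0) (e d') = B (e 0) (e d) := by
    intro d d' hdd
    have h1 : B (e d) (e (d + d')) = B (e 0) (e d') := hD d d'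
    have h2 : e (d + d') = e 0 := by rw [hdd]; exact he7 0
    rw [← h1, h2]
    exact hBsym _ (heS 0) _ (heS d)
  have hFall : ∀ d, d < 7 → B (e 0) (e d) = 1 := by
    intro d hd
    interval_cases d
    · exact hBalt _ (heS 0)
    · exact hF1'
    · exact hF2'
    · exact hF3'
    · rw [hFsym' 3 4 rfl]; exact hF3'
    · rw [hFsym' 2 5 rfl]; exact hF2'
    · rw [hFsym' 1 6 rfl]; exact hF1'
  -- conclusion
  obtain ⟨o', ho'⟩ := hf_surj ⟨y, hy⟩
  have hy' : (f o' : G) = y := congrArg Subtype.val ho'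
  rw [← he0, ← hy']
  rcases o' with _ | j
  · rw [hf0]
    exact hB1r _ (heS 0)
  · rw [hf1]
    exact hFall _ j.isLt

end Cfsg.Agent.Lib.Helper84.ReeMultP2FORM
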