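import Mathlib
import Cfsg.Agent.Lib.Helper18.ReeMultStmt

set_option autoImplicit false

/-! S2113 piece SQFORM (second seat): a biadditive map invariant under simultaneous scaling by
the nonzero squares is trivial (characteristic 3, some `r ≠ 0` with `r ^ 8 ≠ 1`). -/

namespace Cfsg.Agent.Lib.Helper84.ReeMultSQFORM

open Cfsg.Agent.Lib.Helper18.ReeMultStmt

universe v w

theorem main : SQFORM.{v, w} := by
  intro K _ M _ B h3 hr hadd1 hadd2 hinv a b
  obtain ⟨r, hr0, hr8⟩ := hr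
  have hz1 : ∀ b, B 0 b = 1 := by
    intro b
    have h := hadd1 0 0 b
    rw [add_zero] at h
    have h' : B 0 b * 1 = B 0 b * B 0 b := by rw [mul_one]; exact h
    exact (mul_left_cancel h').symm
  have hneg1 : ∀ a b, B (-a) b = (B a b)⁻¹ := by
    intro a b
    have h := hadd1 a (-a) b
    rw [add_neg_cancel, hz1] at h
    exact eq_inv_of_mul_eq_one_right h.symm
  have h1 : 1 + r ≠ 0 := by
    intro h
    apply hr8
    have hr' : r = -1 := by linear_combination h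
    rw [hr']
    norm_num
  have h2 : 1 - r ≠ 0 := by
    intro h
    apply hr8
    have hr' : r = 1 := by linear_combination -h
    rw [hr']
    norm_num
  have hshift : ∀ s a b, s ≠ 0 → B (s ^ 2 * a) b = B a ((s ^ 2)⁻¹ * b) := by
    intro s a b hs
    have h := hinv s a ((s ^ 2)⁻¹ * b) hs
    rw [← mul_assoc, mul_inv_cancel₀ (pow_ne_zero 2 hs), one_mul] at h
    exact h
  have key : ∀ a b,
      B a ((((1 + r) ^ 2)⁻¹ + ((1 - r) ^ 2)⁻¹ + 1 + (r ^ 2)⁻¹) * b) = 1 := by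
    intro a b
    have e1 : (1 + r) ^ 2 * a + (1 - r) ^ 2 * a = -(a + r ^ 2 * a) := by
      linear_combination (a + r ^ 2 * a) * h3
    have e2 := hadd1 ((1 + r) ^ 2 * a) ((1 - r) ^ 2 * a) b
    rw [e1, hneg1, hadd1, hshift (1 + r) a b h1, hshift (1 - r) a b h2, hshift r a b hr0] at e2
    rw [add_mul, add_mul, add_mul, one_mul, hadd2, hadd2, hadd2, ← e2, mul_assoc,
      inv_mul_cancel]
  have hE : ((1 + r) ^ 2)⁻¹ + ((1 - r) ^ 2)⁻¹ + 1 + (r ^ 2)⁻¹ ≠ 0 := by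
    intro hE
    apply hr8
    have h4 : (((1 + r) ^ 2)⁻¹ + ((1 - r) ^ 2)⁻¹ + 1 + (r ^ 2)⁻¹) *
        ((1 + r) ^ 2 * (1 - r) ^ 2 * r ^ 2) = (1 + r ^ 2) * (1 + r ^ 4) := by
      field_simp
      ring
    rw [hE, zero_mul] at h4
    linear_combination (-(r ^ 2 - 1)) * h4
  have hfin := key a ((((1 + r) ^ 2)⁻¹ + ((1 - r) ^ 2)⁻¹ + 1 + (r ^ 2)⁻¹)⁻¹ * b)
  rw [← mul_assoc, mul_inv_cancel₀ hE, one_mul] at hfin
  exact hfin

end Cfsg.Agent.Lib.Helper84.ReeMultSQFORM
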