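import Mathlib
import Cfsg.Agent.Lib.Helper42.ReeSpStmt2
import Cfsg.Agent.Lib.Helper7.RHCONJT
import Cfsg.Agent.Lib.Helper97.RHCONJH
import Cfsg.Agent.Lib.Helper97.RHCONJA

set_option autoImplicit false

/-! Piece CONJ of helper42's second small-Ree call (S2358, helper84): cyclic subgroups of the
same toral order are conjugate.  Assembled from the landed pieces CONJH, CONJA (helper97) and the
argument of CONJT (helper7), which only needs the two Hall subgroups of `FinC`. -/

namespace Cfsg.Agent.Lib.Helper84.ReeSpCONJ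

open Cfsg.Agent.Lib.Helper42.ReeSpStmt
open Cfsg.Agent.Lib.Helper7.ReeSpORB Cfsg.Agent.Lib.Helper7.RHCONJT

universe u v

/-- the torus case, from `FinC` alone (the proof of helper7's CONJT) -/
theorem tor {G : Type u} [Group G] [Finite G] (m : ℕ) (hfin : FinC G m) (d : ℕ)
    (hd : d ∣ qq m - rr m + 1 ∨ d ∣ qq m + rr m + 1) (A B : Subgroup G) (hA : IsCyclic ↥A)
    (hB : IsCyclic ↥B) (hcA : Nat.card ↥A = d) (hcB : Nat.card ↥B = d) :
    ∃ g : G, B = A.map (MulAut.conj g).toMonoidHom := by
  by_cases hd1 : d = 1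
  · subst hd1
    have hAb : A = ⊥ := Subgroup.eq_bot_of_card_eq A hcA
    have hBb : B = ⊥ := Subgroup.eq_bot_of_card_eq B hcB
    exact ⟨1, by rw [hAb, hBb, Subgroup.map_bot]⟩
  · obtain ⟨a, rfl⟩ := cyc_gen A hA
    obtain ⟨b, rfl⟩ := cyc_gen B hB
    have hoa : orderOf a = d := by rw [← hcA, Nat.card_zpowers]
    have hob : orderOf b = d := by rw [← hcB, Nat.card_zpowers]
    have hdQ : d ∣ qq m ^ 2 - qq m + 1 := by
      rw [← tor_mul]
      rcases hd with h | h
      · exact Dvd.dvd.mul_left h _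
      · exact Dvd.dvd.mul_right h _
    have hcop : Nat.Coprime d (qq m * (qq m ^ 2 - 1)) :=
      Nat.Coprime.coprime_dvd_left hdQ (coprime_Q m)
    have ha3 : P3 G m a := by
      refine ⟨?_, by rw [hoa]; exact hcop⟩
      rintro rfl
      rw [orderOf_one] at hoa
      exact hd1 hoa.symm
    have hb3 : P3 G m b := by
      refine ⟨?_, by rw [hob]; exact hcop⟩
      rintro rfl
      rw [orderOf_one] at hob
      exact hd1 hob.symm
    obtain ⟨C₁, C₂, hc1, hc2, hn1, hn2, hcov⟩ := hfin
    have no1 : ∀ {z : G} {w : G}, orderOf z = d → w * z * w⁻¹ ∈ C₁ → d ∣ qq m - rr m + 1 →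
        False := by
      intro z w hz hw hdd
      have h1 : d ∣ qq m + rr m + 1 := by
        rw [← hn1, ← hz, ← ord_conj w z]
        exact Subgroup.orderOf_dvd_natCard _ hw
      have h2 := Nat.dvd_gcd h1 hdd
      rw [tor_coprime m] at h2
      exact hd1 (Nat.dvd_one.mp h2)
    have no2 : ∀ {z : G} {w : G}, orderOf z = d → w * z * w⁻¹ ∈ C₂ → d ∣ qq m + rr m + 1 →
        False := by
      intro z w hz hw hdd
      have h1 : d ∣ qq m - rr m + 1 := by
        rw [← hn2, ← hz, ← ord_conj w z]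
        exact Subgroup.orderOf_dvd_natCard _ hw
      have h2 := Nat.dvd_gcd hdd h1
      rw [tor_coprime m] at h2
      exact hd1 (Nat.dvd_one.mp h2)
    obtain ⟨x, hx⟩ := hcov a ha3
    obtain ⟨y, hy⟩ := hcov b hb3
    rcases hd with hdd | hdd
    · rcases hx with hx | hx
      · exact (no1 hoa hx hdd).elim
      · rcases hy with hy | hy
        · exact (no1 hob hy hdd).elim
        · exact conj_of_common hc2 hx hy (hob.trans hoa.symm)
    · rcases hx with hx | hx
      · rcases hy with hy | hy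
        · exact conj_of_common hc1 hx hy (hob.trans hoa.symm)
        · exact (no2 hob hy hdd).elim
      · exact (no2 hoa hx hdd).elim

theorem main : Cfsg.Agent.Lib.Helper42.ReeSpStmt2.ConjP.{u, v} := by
  intro G _ _ U H A K _ _ m hax hoh hoa hfin d hd A' B' hA hB hcA hcB
  rcases hd with h | h | h | h
  · exact Cfsg.Agent.Lib.Helper97.RHCONJH.main G U H A K m hax hoh d h A' B' hA hB hcA hcB
  · exact Cfsg.Agent.Lib.Helper97.RHCONJA.main G U H A K m hax hoa d h A' B' hA hB hcA hcB
  · exact tor m hfin d (Or.inl h) A' B' hA hB hcA hcB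
  · exact tor m hfin d (Or.inr h) A' B' hA hB hcA hcB

end Cfsg.Agent.Lib.Helper84.ReeSpCONJ
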