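import Mathlib
import Cfsg.Agent.Lib.Helper85.SCStmt
import Cfsg.Agent.Lib.Helper87.FSSat

/-!
# S5127 (strong closure part): shared lemmas on stability automorphisms (helper84)
-/

set_option autoImplicit false

namespace Cfsg.Agent.Lib.Helper84.SCAux

open Cfsg Cfsg.FusionSystem Cfsg.Agent.Lib.Helper85.SCStmt

universe u

variable {Ω : Type u} [Group Ω] {S : Subgroup Ω}

/-- elements of `Aut_F(Y)` preserve a strongly closed subgroup -/
theorem aut_mem (F : FusionSystem S) {T : Subgroup Ω} (hT : F.StronglyClosed T) {Y : Subgroup Ω}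
    (hY : Y ≤ S) (a : MulAut Y) (ha : a ∈ F.autGroup Y) (y : Y) (hy : (y : Ω) ∈ T) :
    ((a y : Y) : Ω) ∈ T := by
  have h1 := (Cfsg.Agent.H85.mem_autGroup_iff F hY a).1 ha
  have h2 := Cfsg.Agent.H85.restrict_mem F h1 (inf_le_left : Y ⊓ T ≤ Y)
  exact hT.2 (Y ⊓ T) inf_le_right _ h2 ⟨y, y.2, hy⟩

/-- the stability automorphisms form a subgroup -/
def stabSub (T Y : Subgroup Ω) : Subgroup (MulAut Y) where
  carrier := {β | Stab T Y β}
  one_mem' := ⟨fun y _ => rfl, fun y => by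
    show (y : Ω)⁻¹ * (y : Ω) ∈ T
    rw [inv_mul_cancel]
    exact T.one_mem⟩
  mul_mem' := by
    rintro β₁ β₂ ⟨h1, h1'⟩ ⟨h2, h2'⟩
    refine ⟨fun y hy => ?_, fun y => ?_⟩
    · show β₁ (β₂ y) = y
      rw [h2 y hy, h1 y hy]
    · show (y : Ω)⁻¹ * ((β₁ (β₂ y) : Y) : Ω) ∈ T
      have h := T.mul_mem (h2' y) (h1' (β₂ y))
      have e : (y : Ω)⁻¹ * ((β₂ y : Y) : Ω) * (((β₂ y : Y) : Ω)⁻¹ * ((β₁ (β₂ y) : Y) : Ω)) =
          (y : Ω)⁻¹ * ((β₁ (β₂ y) : Y) : Ω) := by group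
      rw [e] at h
      exact h
  inv_mem' := by
    rintro β ⟨h1, h1'⟩
    have hinv : ∀ y : Y, β (β⁻¹ y) = y := fun y => MulEquiv.apply_symm_apply β y
    refine ⟨fun y hy => ?_, fun y => ?_⟩
    · apply β.injective
      rw [hinv, h1 y hy]
    · have h := h1' (β⁻¹ y)
      rw [hinv] at h
      have h' := T.inv_mem h
      have e : (((β⁻¹ y : Y) : Ω)⁻¹ * (y : Ω))⁻¹ = (y : Ω)⁻¹ * ((β⁻¹ y : Y) : Ω) := by group
      rw [e] at h'
      exact h'

theorem mem_stabSub (T Y : Subgroup Ω) (β : MulAut Y) : β ∈ stabSub T Y ↔ Stab T Y β := Iff.rfl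

/-- conjugates of stability automorphisms by elements of `Aut_F(Y)` are stability
automorphisms -/
theorem stab_conj (F : FusionSystem S) {T : Subgroup Ω} (hT : F.StronglyClosed T)
    {Y : Subgroup Ω} (hY : Y ≤ S) (a : MulAut Y) (ha : a ∈ F.autGroup Y) (β : MulAut Y)
    (hβ : Stab T Y β) : Stab T Y (a * β * a⁻¹) := by
  obtain ⟨h1, h1'⟩ := hβ
  have hinv : ∀ y : Y, a (a⁻¹ y) = y := fun y => MulEquiv.apply_symm_apply a y
  have ha' : a⁻¹ ∈ F.autGroup Y := (F.autGroup Y).inv_mem ha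
  refine ⟨fun y hy => ?_, fun y => ?_⟩
  · show a (β (a⁻¹ y)) = y
    rw [h1 _ (aut_mem F hT hY a⁻¹ ha' y hy), hinv]
  · show (y : Ω)⁻¹ * ((a (β (a⁻¹ y)) : Y) : Ω) ∈ T
    have hz : (((a⁻¹ y)⁻¹ * β (a⁻¹ y) : Y) : Ω) ∈ T := h1' (a⁻¹ y)
    have h2 := aut_mem F hT hY a ha _ hz
    have e : a ((a⁻¹ y)⁻¹ * β (a⁻¹ y)) = y⁻¹ * a (β (a⁻¹ y)) := by
      rw [map_mul, map_inv, hinv]
    rw [e] at h2
    exact h2

/-- powers of a stability automorphism -/
theorem stab_pow {T Y : Subgroup Ω} (β : MulAut Y) (hβ : Stab T Y β) (y : Y) (n : ℕ) :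
    (β ^ n) y = y * (y⁻¹ * β y) ^ n := by
  obtain ⟨h1, h1'⟩ := hβ
  have hz : β (y⁻¹ * β y) = y⁻¹ * β y := h1 _ (h1' y)
  induction n with
  | zero => simp
  | succ n ih =>
    rw [pow_succ', MulAut.mul_apply, ih, map_mul, map_pow, hz, pow_succ', ← mul_assoc,
      mul_inv_cancel_left]

/-- the stability automorphisms of a finite `p`-group form a `p`-group -/
theorem stab_isPGroup {p : ℕ} [Fact p.Prime] {T Y : Subgroup Ω} [Finite Y]
    (hYp : IsPGroup p Y) : IsPGroup p (stabSub T Y) := by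
  obtain ⟨k, hk⟩ := IsPGroup.iff_card.1 hYp
  intro g
  refine ⟨k, Subtype.ext ?_⟩
  rw [Subgroup.coe_pow, Subgroup.coe_one]
  apply MulEquiv.ext
  intro y
  rw [stab_pow g.1 g.2 y, ← hk, pow_card_eq_one', mul_one]
  rfl

end Cfsg.Agent.Lib.Helper84.SCAux
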