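import Mathlib
import Cfsg.Agent.Lib.Helper85.SCStmt
import Cfsg.Agent.Lib.Helper84.SCAux

/-!
# S5127 piece SCSTABEXT (helper84): a stability element outside `Y` makes every element of
`Aut_F(Y)` extend to a larger subgroup
-/

set_option autoImplicit false

namespace Cfsg.Agent.Lib.Helper84.SCSTABEXT

open Cfsg Cfsg.FusionSystem Cfsg.Agent.Lib.Helper85.SCStmt Cfsg.Agent.Lib.Helper84.SCAux

universe u

theorem main : StabExt.{u} := by
  intro Ω _ S _ F T hT C Y hrec hSIS g hgN hgY hge hIH α hα x hx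
  have hY : Y ≤ S := hrec.1
  have hgS : g ∈ S := hgN.1
  have hgn : g ∈ Subgroup.normalizer (Y : Set Ω) := hgN.2
  have hcg : ∀ y : Y, ((Subgroup.normalizerMonoidHom Y ⟨g, hgn⟩ y : Y) : Ω) = g * y * g⁻¹ :=
    fun y => rfl
  generalize Subgroup.normalizerMonoidHom Y ⟨g, hgn⟩ = cg at hcg
  have hcgS : cg ∈ autInducedBy S Y :=
    (Cfsg.Agent.H85.mem_autInducedBy_iff S Y cg).2 ⟨g, hgS, hcg⟩
  have hcgA : cg ∈ F.autGroup Y := Cfsg.Agent.H85.autInducedBy_le_autGroup F hY hcgS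
  have hcgStab : Stab T Y cg := by
    refine ⟨fun y hy => Subtype.ext ?_, fun y => ?_⟩
    · rw [hcg]; exact hge.1 y y.2 hy
    · rw [hcg]; exact hge.2 y y.2
  have hconj : Stab T Y (α * cg * α⁻¹) := stab_conj F hT hY α hα cg hcgStab
  have hconjA : α * cg * α⁻¹ ∈ F.autGroup Y :=
    (F.autGroup Y).mul_mem ((F.autGroup Y).mul_mem hα hcgA) ((F.autGroup Y).inv_mem hα)
  obtain ⟨h, hh, hhx⟩ := (Cfsg.Agent.H85.mem_autInducedBy_iff S Y _).1 (hSIS _ hconjA hconj)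
  have hφ : Y.subtype.comp α.toMonoidHom ∈ F.Hom Y :=
    (Cfsg.Agent.H85.mem_autGroup_iff F hY α).1 hα
  have hrange : (Y.subtype.comp α.toMonoidHom).range = Y := by
    ext y
    constructor
    · rintro ⟨z, rfl⟩
      exact (α z).2
    · intro hy
      refine ⟨α.symm ⟨y, hy⟩, ?_⟩
      show ((α (α.symm ⟨y, hy⟩) : Y) : Ω) = y
      rw [MulEquiv.apply_symm_apply]
  obtain ⟨ψ, hψ, hψx⟩ := hrec.2 Y _ hφ hrange
  have hgE : g ∈ extender S Y (Y.subtype.comp α.toMonoidHom) := by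
    refine Subgroup.subset_closure ⟨hgS, hgn, h, hh, fun z hz => ?_⟩
    have h1 := hhx (α z)
    have e : (α * cg * α⁻¹) (α z) = α (cg z) := by
      show α (cg (α⁻¹ (α z))) = α (cg z)
      rw [show α⁻¹ (α z) = z from MulEquiv.symm_apply_apply α z]
    rw [e] at h1
    show ((α ⟨g * z * g⁻¹, hz⟩ : Y) : Ω) = h * ((α z : Y) : Ω) * h⁻¹
    rw [← h1]
    congr 2
    exact Subtype.ext (hcg z).symm
  have hYE : Y ≤ extender S Y (Y.subtype.comp α.toMonoidHom) :=
    Cfsg.Agent.H85.le_extender S Y _ hY (fun z => hY (α z).2)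
  haveI : Finite ↥(extender S Y (Y.subtype.comp α.toMonoidHom)) :=
    Cfsg.Agent.Lib.Helper87.FSSat.finite_of_le
      ((Cfsg.Agent.H85.extender_le S Y _).trans inf_le_left)
  have hlt : Nat.card Y < Nat.card (extender S Y (Y.subtype.comp α.toMonoidHom)) := by
    by_contra hle
    have heq := Subgroup.eq_of_le_of_card_ge hYE (not_lt.1 hle)
    exact hgY (heq ▸ hgE)
  have h2 := hIH _ hlt ψ hψ ⟨x, hYE x.2⟩ hx
  rw [hψx x x.2 (hYE x.2)] at h2
  exact h2

end Cfsg.Agent.Lib.Helper84.SCSTABEXT
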