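import Mathlib
import Cfsg.Agent.Lib.Helper85.SCStmt
import Cfsg.Agent.Lib.Helper84.SCAux

/-!
# S5127 piece SCSTABP (helper84): stability automorphisms lie in `Aut_S(Y)` when `Y` is fully
automized
-/

set_option autoImplicit false

namespace Cfsg.Agent.Lib.Helper84.SCSTABP

open Cfsg Cfsg.FusionSystem Cfsg.Agent.Lib.Helper85.SCStmt Cfsg.Agent.Lib.Helper84.SCAux

universe u

theorem main : StabP.{u} := by
  intro Ω _ S _ p _ hS F T hT Y hfa β hβ hstab
  obtain ⟨hY, R, hR⟩ := hfa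
  haveI : Finite ↥Y := Cfsg.Agent.Lib.Helper87.FSSat.finite_of_le hY
  have hYp : IsPGroup p ↥Y := hS.to_le hY
  haveI hN : ((stabSub T Y).subgroupOf (F.autGroup Y)).Normal := by
    refine ⟨fun n hn g => ?_⟩
    rw [Subgroup.mem_subgroupOf] at hn ⊢
    exact stab_conj F hT hY g.1 g.2 n.1 hn
  have hNp : IsPGroup p ((stabSub T Y).subgroupOf (F.autGroup Y)) :=
    (stab_isPGroup hYp).comap_subtype
  have hle := hNp.le_sylow_of_normal R
  have hmem : (⟨β, hβ⟩ : F.autGroup Y) ∈ (stabSub T Y).subgroupOf (F.autGroup Y) := by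
    rw [Subgroup.mem_subgroupOf]
    exact hstab
  have h1 : (⟨β, hβ⟩ : F.autGroup Y) ∈ (R : Subgroup (F.autGroup Y)) := hle hmem
  rw [hR, Subgroup.mem_subgroupOf] at h1
  exact h1

end Cfsg.Agent.Lib.Helper84.SCSTABP
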